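import Mathlib
import Cfsg.Agent.GT.Cores

/-! Normalisers `N(E) = X C(E)` whose quotient by a normal 2-subgroup is a direct product. -/

set_option autoImplicit false

namespace Cfsg.Agent.Gr.L2

open Subgroup

variable {G A B : Type*} [Group G] [Group A] [Group B]

theorem exists_prod_hom {N C X O : Subgroup G} (hC : C ≤ N) (hO : O ≤ C) (φ : N →* A)
    (hφ : ∀ x, φ x = 1 ↔ (x : G) ∈ C) (hX : ∀ a, ∃ x, φ x = a ∧ (x : G) ∈ X) (μ : C →* B)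
    (hμ : ∀ x, μ x = 1 ↔ (x : G) ∈ O) (hs : Function.Surjective μ)
    (h1 : ∀ x ∈ X, ∀ c ∈ C, x * c * x⁻¹ * c⁻¹ ∈ O) (h2 : ∀ x ∈ X, x ∈ C → x ∈ O) :
    ∃ Φ : N →* B × A, Function.Surjective Φ ∧ ∀ x, Φ x = 1 ↔ (x : G) ∈ O := by
  choose ξ hξ hξX using hX
  have hm : ∀ n x : N, φ x = φ n → ((x⁻¹ * n : N) : G) ∈ C := fun n x e =>
    (hφ _).1 (by rw [map_mul, map_inv, e, inv_mul_cancel])
  have he : ∀ a b : C, (a : G) * (b : G)⁻¹ ∈ O → μ a = μ b := fun a b e => by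
    rw [← mul_inv_eq_one, ← map_inv, ← map_mul, hμ]; exact e
  let ν : N → B := fun n => μ ⟨_, hm n _ (hξ _)⟩
  have hν : ∀ (n x : N) (e : φ x = φ n), (x : G) ∈ X → ν n = μ ⟨_, hm n x e⟩ := fun n x e hx => by
    refine he _ _ ?_
    have := h2 _ (mul_mem (inv_mem (hξX (φ n))) hx) (hm x _ ((hξ _).trans e.symm))
    simpa [mul_assoc] using this
  let δ : N →* B := MonoidHom.mk' ν fun a b => by
    have hb := inv_mem (hξX (φ b))
    have k := h1 _ hb _ (hm a _ (hξ _))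
    have k' := (C.mul_mem_cancel_right (inv_mem (hm a _ (hξ _)))).1 (hO k)
    rw [hν (a * b) (ξ (φ a) * ξ (φ b)) (by rw [map_mul, map_mul, hξ, hξ]) (mul_mem (hξX _) (hξX _))]
    change _ = μ _ * μ _
    rw [← he ⟨_, k'⟩ ⟨_, hm a _ (hξ _)⟩ k, ← map_mul μ]
    exact congrArg μ (Subtype.ext (by simp [mul_assoc]))
  have hδ : ∀ c : C, δ ⟨c, hC c.2⟩ = μ c := fun c =>
    (hν _ 1 (by rw [map_one, eq_comm, hφ]; exact c.2) (one_mem _)).trans (congrArg μ (Subtype.ext (by simp)))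
  refine ⟨δ.prod φ, fun ⟨b, a⟩ => ?_, fun x => ?_⟩
  · obtain ⟨c, hc⟩ := hs (b * (δ (ξ a))⁻¹)
    refine ⟨⟨c, hC c.2⟩ * ξ a, ?_⟩
    rw [MonoidHom.prod_apply, map_mul, map_mul, hδ, hc, hξ, (hφ _).2 c.2]; simp
  · rw [MonoidHom.prod_apply, Prod.mk_eq_one, hφ]
    exact ⟨fun ⟨a, c⟩ => (hμ ⟨x, c⟩).1 ((hδ ⟨x, c⟩).symm.trans a),
      fun c => ⟨(hδ ⟨x, hO c⟩).trans ((hμ _).2 c), hO c⟩⟩

theorem pCore_prod {p : ℕ} (hA : pCore p A = ⊥) (hB : pCore p B = ⊥) : pCore p (A × B) = ⊥ := by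
  rw [GT.pCore_eq_bot_iff] at hA hB ⊢
  refine fun N hN h => eq_bot_iff.2 fun x hx => Prod.ext ?_ ?_
  · exact (hA _ (hN.map (MonoidHom.fst A B) Prod.fst_surjective) (h.map _)).le (mem_map_of_mem _ hx)
  · exact (hB _ (hN.map (MonoidHom.snd A B) Prod.snd_surjective) (h.map _)).le (mem_map_of_mem _ hx)

theorem pCore_simple [IsSimpleGroup A] [Finite A] (h3 : 3 ∣ Nat.card A) : pCore 2 A = ⊥ := by
  refine ((inferInstance : (pCore 2 A).Normal).eq_bot_or_eq_top).resolve_right fun e => ?_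
  have : Fact (Nat.Prime 2) := ⟨Nat.prime_two⟩
  obtain ⟨n, hn⟩ := IsPGroup.iff_card.1 (GT.pCore_eq_top_iff.1 e)
  exact absurd (Nat.prime_three.dvd_of_dvd_pow (hn ▸ h3)) (by norm_num)

/-- The final form of the structure of the normaliser. -/
theorem shape [Finite G] {N E O : Subgroup G} (hO : O ≤ N) {n : ℕ} (hc : Nat.card O = 2 ^ n)
    (hZ : (center O).map O.subtype = E) (hA : pCore 2 A = ⊥) (Φ : N →* A) (hs : Function.Surjective Φ)
    (hk : ∀ x, Φ x = 1 ↔ (x : G) ∈ O) :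
    ∃ O' : Subgroup N, O' = pCore 2 N ∧ Nat.card O' = 2 ^ n ∧ (center O').map O'.subtype = E.subgroupOf N ∧
      ∃ _ : O'.Normal, Nonempty (N ⧸ O' ≃* A) := by
  have : Fact (Nat.Prime 2) := ⟨Nat.prime_two⟩
  have h1 : Nat.card Φ.ker = 2 ^ n := by
    rw [show Φ.ker = O.subgroupOf N from Subgroup.ext hk, Nat.card_congr (subgroupOfEquivOfLe hO).toEquiv, hc]
  refine ⟨Φ.ker, le_antisymm (GT.le_pCore (IsPGroup.of_card h1)) ?_, h1, ?_, inferInstance,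
    ⟨QuotientGroup.quotientKerEquivOfSurjective Φ hs⟩⟩
  · rw [← Subgroup.map_eq_bot_iff]
    exact GT.pCore_eq_bot_iff.1 hA _ ((inferInstance : (pCore 2 N).Normal).map Φ hs) ((GT.isPGroup_pCore 2).map Φ)
  · subst hZ
    ext x
    constructor
    · rintro ⟨y, hy, rfl⟩
      refine ⟨⟨_, (hk _).1 y.2⟩, mem_center_iff.2 fun a => Subtype.ext ?_, rfl⟩
      exact congrArg (fun t : Φ.ker => ((t : N) : G)) (mem_center_iff.1 hy ⟨⟨a, hO a.2⟩, (hk _).2 a.2⟩)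
    · rintro ⟨y, hy, e⟩
      have e' : (y : G) = x := e
      refine ⟨⟨x, (hk _).2 (e' ▸ y.2)⟩, mem_center_iff.2 fun a => Subtype.ext (Subtype.ext ?_), rfl⟩
      have := congrArg Subtype.val (mem_center_iff.1 hy ⟨_, (hk _).1 a.2⟩)
      simpa [e'] using this

end Cfsg.Agent.Gr.L2
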