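import Mathlib
import Cfsg.Agent.GT.PiGroups
import Cfsg.Agent.Inv.Classes
import Cfsg.Agent.Spor.LeechSimple
import Cfsg.Agent.Spor.MTPair
import Cfsg.Agent.Gr.L2.Prod

/-! The normaliser `2^{2+11+22}.(M24 × S3)` in a group of Monster type. -/

set_option autoImplicit false

namespace Cfsg.Agent.Gr.L2

open Subgroup Cfsg.Agent.Spor Cfsg.Agent.Spor.MT Cfsg.Agent.Spor.Leech

theorem exists_mu {H : Type*} [Group H] (κ : H →* Cfsg.Spor.Co1) (hκ : ∀ x, κ x ∈ Mon.map pr) :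
    ∃ μ : H →* M24, ∀ x, ∀ a ∈ Sgn, ∀ σ, pr (a * perm σ) = κ x → μ x = σ := by
  choose g hg e using hκ
  have key : ∀ x, ∀ a ∈ Sgn, ∀ σ, pr (a * perm σ) = κ x → toM24 ⟨g x, hg x⟩ = σ := fun x a ha σ h => by
    rcases pr_eq_iff.1 ((e x).trans h.symm) with k | k
    · obtain ⟨c, hc, rfl⟩ := ha
      exact toM24_eq k
    · obtain ⟨c, hc, k'⟩ := mul_mem negOne_mem_Sgn ha
      exact toM24_eq (hc := hc) (by rw [← k', mul_assoc]; exact k)
  refine ⟨MonoidHom.mk' (fun x => toM24 ⟨g x, hg x⟩) fun x y => ?_, key⟩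
  rw [← map_mul]
  obtain ⟨c, hc, k⟩ := toM24_spec (⟨g x, hg x⟩ * ⟨g y, hg y⟩)
  exact key _ _ ⟨c, hc, rfl⟩ _ (by rw [← k, map_mul κ, ← e, ← e, ← map_mul]; rfl)

theorem pCore_M24 : pCore 2 M24 = ⊥ := by
  have := S0365.result
  exact pCore_simple (by rw [S0364.result]; norm_num)

variable {G : Type*} [Group G] [Finite G] {Q R : Subgroup G} {z s : G}
  {π : centralizer ({z} : Set G) →* Cfsg.Spor.Co1} {r : Λ → G}

theorem card_rad (h : MData Q z π r) (hp : ESPair Q R z s) :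
    Nat.card ↥((R ⊓ centralizer {z}) ⊔ (Q ⊓ centralizer {s})) = 2 ^ 35 := by
  have h0 : Nat.card R = 2 ^ 25 := by
    obtain ⟨g, rfl, -⟩ := hp.conj
    rw [card_map_of_injective (MulAut.conj g).injective, h.card]
  have h1 := hp.esR.card_centralizer_mul_two hp.z_mem h.es.z_ne hp.ne
  have h2 := h.es.card_centralizer_mul_two hp.s_mem hp.esR.z_ne hp.ne.symm
  have h3 := GT.card_sup_mul_card_inf_of_le_normalizer hp.Ps_le_norm_Pz
  rw [sup_comm, inf_comm (Q ⊓ centralizer {s}), hp.E_eq, h.card_E hp, show Nat.card ↥(R ⊓ centralizer {z}) = 2 ^ 24 by omega,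
    show Nat.card ↥(Q ⊓ centralizer {s}) = 2 ^ 24 by rw [h.card] at h2; omega] at h3
  omega

/-- An element of `C(z, s)` acting as a sign change lies in the radical. -/
theorem mem_rad_iff (h : MData Q z π r) (hp : ESPair Q R z s) {p : GolayPt} (hv : Eqv z s (r (e8 p)))
    {x : centralizer ({z} : Set G)} (hx : s * x = x * s) :
    (x : G) ∈ (R ⊓ centralizer {z}) ⊔ (Q ⊓ centralizer {s}) ↔ π x ∈ Sgn.map pr := by
  rw [← (h.img_eq hp hv).1]
  constructor
  · intro hx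
    obtain ⟨a, ha, b, hb, e⟩ := hp.exists_mul_of_mem_rad hx
    refine ⟨⟨a, ha.2⟩, ha.1, ?_⟩
    have : x = ⟨a, ha.2⟩ * ⟨b, mem_centralizer_singleton.2 (h.es.z_comm b hb.1)⟩ := Subtype.ext e.symm
    rw [this, map_mul, (h.ker ⟨b, _⟩).2 hb.1, mul_one]
  · rintro ⟨a, ha, e⟩
    have h1 : ((a⁻¹ * x : centralizer ({z} : Set G)) : G) ∈ Q := (h.ker _).1 (by rw [map_mul, map_inv, e, inv_mul_cancel])
    have h2 : ((a⁻¹ * x : centralizer ({z} : Set G)) : G) ∈ centralizer ({s} : Set G) :=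
      mul_mem (inv_mem (mem_centralizer_singleton.2 (hp.esR.z_comm _ ha))) (mem_centralizer_singleton.2 hx)
    simpa using mul_mem (mem_sup_left (T := Q ⊓ centralizer {s}) (mem_inf.2 ⟨show (a : G) ∈ R from ha, a.2⟩))
      (mem_sup_right (mem_inf.2 ⟨h1, h2⟩))

theorem four (h : MData Q z π r) {a : G} (h1 : a * z * a⁻¹ ∈ Q) (h2 : a * z * a⁻¹ ≠ z) :
    ∃ (E N : Subgroup G) (O : Subgroup N), IsKleinFour E ∧ N = normalizer (E : Set G) ∧ O = pCore 2 N ∧
      Nat.card O = 2 ^ 35 ∧ (center O).map O.subtype = E.subgroupOf N ∧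
      ∃ _ : O.Normal, Nonempty (N ⧸ O ≃* M24 × Equiv.Perm (Fin 3)) := by
  have hp := h.pair h1 h2
  generalize a * z * a⁻¹ = s, Q.map (MulAut.conj a).toMonoidHom = R at hp
  obtain ⟨k, hv⟩ := h.exists_e8 hp none
  replace h := h.remark k
  generalize (MulAut.conj (pr k)⁻¹).toMonoidHom.comp π = π at h
  obtain ⟨φ, -, a1, a2, a3⟩ := hp.exists_phi
  let ι : centralizer ((closure ({z, s} : Set G) : Subgroup G) : Set G) →* centralizer ({z} : Set G) :=
    inclusion fun x hx => mem_centralizer_singleton.2 (mem_centralizer_closure_pair.1 hx).1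
  have hι : ∀ x, s * ι x = ι x * s := fun x => (mem_centralizer_closure_pair.1 x.2).2
  obtain ⟨μ, hμ⟩ := exists_mu (π.comp ι) fun x =>
    h.stab_eq hp hv ▸ mem_map_of_mem π (mem_centralizer_singleton.2 (hι x))
  obtain ⟨Φ, b1, b2⟩ := exists_prod_hom (centralizer_le_normalizer _) hp.rad_le φ a1 a2 μ (fun x => by
      refine Iff.trans ?_ (mem_rad_iff h hp hv (hι x)).symm
      obtain ⟨g, hg, e⟩ : π (ι x) ∈ Mon.map pr :=
        h.stab_eq hp hv ▸ mem_map_of_mem π (mem_centralizer_singleton.2 (hι x))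
      obtain ⟨b, hb, σ, rfl⟩ := exists_Sgn_mul_perm hg
      rw [hμ x b hb σ e, ← e, mem_map_pr center_le_Sgn, Sgn.mul_mem_cancel_left hb]
      exact ⟨fun k => by rw [k, map_one]; exact one_mem _, eq_one_of_perm_mem_Sgn⟩)
    (fun σ => by
      obtain ⟨x, hx, e⟩ : pr (perm σ) ∈ ((centralizer {s}).subgroupOf (centralizer {z})).map π :=
        h.stab_eq hp hv ▸ mem_map_of_mem pr (perm_mem_Mon σ)
      exact ⟨⟨x, mem_centralizer_closure_pair.2 ⟨MData.z_comm_coe x, mem_centralizer_singleton.1 hx⟩⟩,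
        hμ _ 1 (one_mem _) σ (by rw [one_mul]; exact e.symm)⟩)
    (fun x hx => hp.comm_X_C hx) a3
  obtain ⟨O, hO⟩ := shape (hp.rad_le.trans (centralizer_le_normalizer _)) (card_rad h hp) hp.center_rad
    (pCore_prod pCore_M24 pCore_two_perm3) Φ b1 b2
  exact ⟨_, _, O, Inv.isKleinFour_closure_pair h.es.orderOf_z hp.esR.orderOf_z hp.ne hp.zs_comm, rfl, hO⟩

end Cfsg.Agent.Gr.L2
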