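import Mathlib
import Cfsg.Agent.Spor.MTKey
import Cfsg.Agent.Gr.L2.FiveM

/-! A four-dimensional space of classes of type four in the Leech lattice modulo two. -/

set_option autoImplicit false
set_option maxRecDepth 100000

namespace Cfsg.Agent.Gr.L2

open Finset Cfsg.Agent.Spor Cfsg.Agent.Spor.Leech Cfsg.Agent.Spor.LC Cfsg.Agent.Spor.MT
open Cfsg.Agent.Spor.Golay (ptIdx ptOf maskSet ptIdx_lt mem_maskSet)
open scoped Pointwise symmDiff

/-- The tetrads. -/
def tT (m : ℕ) : ℕ := [0, 147492, 131114, 16398, 147465, 45, 16419, 131079].getD m 0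

/-- The codes of the sixteen vectors. -/
noncomputable def uc (n : ℕ) : ℕ := pkR (fun i => if n = 8 ∧ i = 23 then 16 else if (tT (n % 8)).testBit i then
  (if 8 ≤ n ∧ tT (n % 8) % 2 ^ i = 0 then 4 else 12) else 8) 24

/-- The sixteen vectors. -/
noncomputable def uv (n : ℕ) : Λ := vec (uc n)

/-- The code of a vector of shape `(4, ±4)`. -/
noncomputable def dc (d : ℕ) : ℕ :=
  pkR (fun i => if i = d % 32 then 12 else if i = d / 32 % 32 then 12 - 8 * (d / 1024 % 2) else 8) 24

/-- The splittings into minimal vectors. -/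
def dat : List ℕ :=
  [277979011104, 4717761727200, 1393911335008, 15148485384224, 4716281860832, 552903077952, 1385275265472,
    15243108905024, 3865878538976, 835112217312, 560238897696, 15269281368224, 1394661748832, 1386075986368,
    826975285344, 13593975287904, 4796275036256, 4684660414528, 6333122547808, 10200816097344, 4693204805664,
    4701789948352, 6341666343360, 12691763505184, 3894341079072, 1403306182720, 6367033297440, 13490627612704,
    15147156439072, 15241691922496, 13591619240032, 279309254688, 9074074130464, 13513856846560, 10190006454368,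
    6352394459168, 13512376980192, 9348998197312, 10181370384832, 6447017979968, 12661973658336, 9631207336672,
    9356334017056, 6473190443168, 10190756868192, 10182171105728, 9623070404704, 4797884362848, 13592370155616,
    13480755533888, 15129217667168, 1404725172288, 13489299925024, 13497885067712, 15137761462720, 3895672580128,
    12690436198432, 10199401302080, 15163128416800, 4694536687648]

theorem uc_ok : ∀ n < 16, ok64 (uc n) = true ∧ (n ≠ 0 → okN 64 (uc n) = true) ∧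
    ∀ i < 24, dg (uc n) i % 4 = 0 := by decide +kernel

/-- The keys of the sixteen vectors. -/
noncomputable def kL (n : ℕ) : ℕ := xs (fun j => key (uc (2 ^ j))) 4 n

theorem key_uc : ∀ n < 16, key (uc n) = kL n := by decide +kernel

theorem uc_tm : uc 8 = c8 23 ∧ ∀ j < 3, ∀ i < 24, dg (uc (2 ^ j)) i = if (tm j 17).testBit i then 12 else 8 := by
  decide +kernel

/-- The check of one pair of orthogonal minimal vectors. -/
noncomputable def pairOK (n d : ℕ) : Bool := force (dc d) fun v => force (dc (d / 2048)) fun w =>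
  band (band (okN 32 v) (okN 32 w)) (band (band (ok64 v) (ok64 w))
    (band (Nat.beq (ipc v w) 32768) (Nat.beq (key v ^^^ key w) (key (uc n)))))

theorem dat_ok : ∀ n < 15, ∀ j < 4, force (dat.getD (4 * n + j) 0) (fun d => band (band (pairOK (n + 1) d)
    (pairOK (n + 1) (d / 4194304))) (Nat.beq (key (dc d) ^^^ key (dc (d / 4194304))) (key (uc (2 ^ j))))) = true := by
  decide +kernel

theorem kv_uv {n : ℕ} (h : n < 16) : kv (uv n) = key (uc n) := (key_vec (uc_ok n h).1).symm

theorem cg_uv_xor {n k : ℕ} (hn : n < 16) (hk : k < 16) : Cg (uv (n ^^^ k)) (uv n + uv k) := by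
  have := Nat.xor_lt_two_pow (n := 4) hn hk
  rw [← kv_eq_iff, kv_add, kv_uv hn, kv_uv hk, kv_uv this, key_uc _ hn, key_uc _ hk, key_uc _ this, kL, xs_xor]
  rfl

theorem cg_uv_zero : Cg (uv 0) 0 := by
  rw [← kv_eq_iff, kv_uv (by norm_num), key_uc _ (by norm_num), kL, xs_zero, kv_zero]

theorem nm_uv {n : ℕ} (h : n < 16) (h0 : n ≠ 0) : nm (uv n) = 64 := (okN_spec ((uc_ok n h).2.1 h0)).1

theorem uv_inj {n k : ℕ} (hn : n < 16) (hk : k < 16) (h : Cg (uv n) (uv k)) : n = k := by
  by_contra hne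
  have h1 := nm_uv (Nat.xor_lt_two_pow (n := 4) hn hk) (mt Nat.xor_eq_zero_iff.1 hne)
  have := ((cg_uv_xor hn hk).trans ((h.add (Cg.refl _)).trans (Cg.add_self _))).nm_eq h1.le
    (by rw [nm_zero]; norm_num)
  rw [h1, nm_zero] at this; omega

theorem uv_eight : uv 8 = e8 none := by
  rw [uv, uc_tm.1, show c8 23 = cd (e8 none : Vec) from (cd_e8 none).symm, vec_cd_nm (nm_e8 _).le]

theorem uv_apply {n : ℕ} (h : n < 16) (p : GolayPt) : (uv n : Vec) p = (dg (uc n) (ptIdx p) : ℤ) - 8 := by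
  have := (ok64_spec (uc_ok n h).1)
  rw [← this.2, dg_cd_pt (bd_of_nm this.1), uv]; ring

theorem uv_basis {j : ℕ} (hj : j < 3) (p : GolayPt) : (uv (2 ^ j) : Vec) p = if p ∈ T0 j then 4 else 0 := by
  rw [uv_apply (by interval_cases j <;> norm_num), uc_tm.2 j hj _ (ptIdx_lt p), T0]
  simp only [mem_maskSet]
  split_ifs <;> rfl

theorem dvd_ip_uv {n : ℕ} (h : n < 16) (i j : GolayPt) : (16 : ℤ) ∣ ip (uv n) (v44 i j 1 1) := by
  have h1 := (uc_ok n h).2.2 _ (ptIdx_lt i)
  have h2 := (uc_ok n h).2.2 _ (ptIdx_lt j)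
  rw [ip_v44, uv_apply h, uv_apply h]
  simp only [Units.val_one, one_mul]
  omega

theorem pair_spec {n d : ℕ} (hn : n < 16) (h : pairOK n d = true) :
    ok64 (dc d) = true ∧ nm (vec (dc d)) = 32 ∧ ∃ w, nm w = 32 ∧ ip (vec (dc d)) w = 0 ∧ Cg (uv n) (vec (dc d) + w) := by
  simp only [pairOK, force_eq, band_iff, nbeq_iff] at h
  obtain ⟨⟨h1, h2⟩, ⟨h3, h4⟩, h5, h6⟩ := h
  refine ⟨h3, (okN_spec h1).1, vec (dc (d / 2048)), (okN_spec h2).1, ?_, ?_⟩
  · have := ipc_cd (bd_of_nm (ok64_spec h3).1) (bd_of_nm (ok64_spec h4).1)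
    rw [(ok64_spec h3).2, (ok64_spec h4).2, h5] at this
    push_cast at this; omega
  · rw [← kv_eq_iff, kv_add, kv_uv hn, ← h6, key_vec h3, key_vec h4]

theorem exists_split {n j : ℕ} (hn : n < 16) (h0 : n ≠ 0) (hj : j < 4) : ∃ v v' : Λ,
    (nm v = 32 ∧ ∃ w, nm w = 32 ∧ ip v w = 0 ∧ Cg (uv n) (v + w)) ∧
    (nm v' = 32 ∧ ∃ w, nm w = 32 ∧ ip v' w = 0 ∧ Cg (uv n) (v' + w)) ∧ Cg (uv (2 ^ j)) (v + v') := by
  obtain ⟨n, rfl⟩ := Nat.exists_eq_succ_of_ne_zero h0
  have := dat_ok n (by omega) j hj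
  simp only [force_eq, band_iff, nbeq_iff] at this
  obtain ⟨⟨h1, h2⟩, h3⟩ := this
  obtain ⟨a1, a2⟩ := pair_spec hn h1
  obtain ⟨b1, b2⟩ := pair_spec hn h2
  refine ⟨_, _, a2, b2, ?_⟩
  rw [← kv_eq_iff, kv_add, kv_uv (by interval_cases j <;> norm_num), ← h3, key_vec a1, key_vec b1]

/-- Induction over the sixteen classes. -/
theorem uv_ind {P : ℕ → Prop} (h0 : P 0) (h1 : ∀ j < 4, P (2 ^ j))
    (h2 : ∀ n < 16, ∀ k < 16, P n → P k → P (n ^^^ k)) : ∀ n < 16, P n := by
  intro n
  induction n using Nat.strong_induction_on with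
  | _ n ih =>
    intro hn
    rcases (by decide : ∀ n < 16, n = 0 ∨ ∃ j < 4, ∃ k < n, n = k ^^^ 2 ^ j ∧ 2 ^ j < 16) n hn with
      rfl | ⟨j, hj, k, hk, e, e'⟩
    · exact h0
    · exact e ▸ h2 k (by omega) _ e' (ih k hk (by omega)) (h1 j hj)

theorem mem_K3_of_cg {c : Finset GolayPt} {hc : IsCode c} {σ : M24}
    (h : ∀ n < 16, Cg ((sign c hc * perm σ) • uv n) (uv n)) : σ.1 ∈ K3 := ⟨σ.2, fun j hj => by
  obtain ⟨w, e⟩ := h (2 ^ j) (by interval_cases j <;> norm_num)
  refine isCode_of_mem w.2 2 fun p => ?_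
  have := congrArg (fun x : Λ => (x : Vec) p) e
  simp only [two_nsmul, AddSubgroup.coe_add, AddSubgroup.coe_sub, Pi.add_apply, Pi.sub_apply, mul_smul, sign_apply,
    perm_apply, uv_basis hj, ← mem_smul_iff] at this
  rw [mem_symmDiff]
  split_ifs at this with h1 h2 h3 h4 h5 h6 h7 <;> simp only [*, not_true, not_false_iff, and_true, and_false,
    true_and, false_and, or_false, false_or, true_iff, false_iff, or_self] <;> omega⟩

theorem cg_of_mem_K3 {σ : M24} (h : σ.1 ∈ K3) : ∀ n < 16, Cg (perm σ • uv n) (uv n) := by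
  refine uv_ind ((cg_uv_zero.smul _).trans (by rw [smul_zero]; exact cg_uv_zero.symm)) (fun j hj => ?_)
    fun n hn k hk a b => ((cg_uv_xor hn hk).smul _).trans (by
      rw [smul_add]; exact (a.add b).trans (cg_uv_xor hn hk).symm)
  by_cases h3 : j = 3
  · rw [h3, show 2 ^ 3 = 8 from rfl, uv_eight, perm_e8]; exact Cg.e8 _ _
  have hj3 : j < 3 := by omega
  refine ⟨⟨fun p => (if p ∈ σ.1 • T0 j then 2 else 0) - if p ∈ T0 j then 2 else 0,
    EvenL.mem ⟨h.2 j hj3, fun p => ?_, ?_⟩⟩, ?_⟩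
  · simp only [mem_symmDiff]
    by_cases a : p ∈ σ.1 • T0 j <;> by_cases b : p ∈ T0 j <;> simp [a, b]
  · rw [sum_sub_distrib, sum_ite_pt, sum_ite_pt, card_smul_finset]; simp
  · ext p
    simp only [two_nsmul, AddSubgroup.coe_add, AddSubgroup.coe_sub, Pi.add_apply, Pi.sub_apply, perm_apply,
      uv_basis hj3, ← mem_smul_iff]
    split_ifs <;> rfl

/-- An automorphism fixing the classes of all vectors `4 e_i + 4 e_j` is `±1`. -/
theorem pr_eq_one_of_v44 {g : Co0} (h : ∀ i j, i ≠ j → Cg (g • v44 i j 1 1) (v44 i j 1 1)) : pr g = 1 := by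
  have h1 : ∀ i j, i ≠ j → g • v44 i j 1 1 = v44 i j 1 1 ∨ g • v44 i j 1 1 = -v44 i j 1 1 := fun i j hij =>
    (h i j hij).eq_or_neg (by rw [nm_smul, nm_v44 hij]; norm_num) (by rw [nm_v44 hij]; norm_num)
  have key : ∀ g : Co0, (∀ i j, i ≠ j → g • v44 i j 1 1 = v44 i j 1 1 ∨ g • v44 i j 1 1 = -v44 i j 1 1) →
      g • v44 none (some 0) 1 1 = v44 none (some 0) 1 1 → g = 1 := fun g h1 h0 => by
    have s : ∀ i j k, i ≠ j → i ≠ k → j ≠ k → g • v44 i j 1 1 = v44 i j 1 1 → g • v44 i k 1 1 = v44 i k 1 1 :=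
      fun i j k a b c e => (h1 i k b).resolve_right fun e' => by
        have := ip_smul g (v44 i j 1 1) (v44 i k 1 1)
        rw [e, e', ip_neg_right, ip_v44, v44_apply, v44_apply] at this
        simp [a, b.symm, c.symm] at this
    have s1 : ∀ k, none ≠ k → g • v44 none k 1 1 = v44 none k 1 1 := fun k hk => by
      by_cases c : some 0 = k
      exacts [c ▸ h0, s _ _ _ none_ne_zero hk c h0]
    have s2 : ∀ i k, i ≠ k → g • v44 i k 1 1 = v44 i k 1 1 := fun i k hk => by
      by_cases c : none = i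
      · exact c ▸ s1 k (c ▸ hk)
      by_cases c' : none = k
      · rw [v44_comm]; exact c' ▸ s1 i c
      exact s i none k (Ne.symm c) hk c' (by rw [v44_comm]; exact s1 i c)
    refine co0_ext_e8 fun i => ?_
    obtain ⟨j, -, k, -, a, b, c⟩ := exists_two_mem_notMem (s := univ) (t := {i}) (by rw [card_univ_pt]; simp)
    rw [mem_singleton] at b c
    have e : e8 i = v44 i j 1 1 + v44 i k 1 1 - v44 j k 1 1 := by
      apply eq_of_two_nsmul_eq
      rw [smul_sub, smul_add, two_smul_v44, two_smul_v44, two_smul_v44]; simp [two_nsmul]; abel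
    rw [e, smul_sub, smul_add, s2 _ _ (Ne.symm b), s2 _ _ (Ne.symm c), s2 _ _ a, one_smul]
  rcases h1 _ _ none_ne_zero with e | e
  · rw [key g h1 e, map_one]
  · have := key (negOne * g) (fun i j hij => by
      rw [mul_smul, negOne_smul]
      exact (h1 i j hij).symm.imp (fun k => by rw [k, neg_neg]) fun k => by rw [k])
      (by rw [mul_smul, negOne_smul, e, neg_neg])
    rw [← map_one pr, ← this]
    exact (pr_eq_iff.2 (Or.inr rfl)).symm

end Cfsg.Agent.Gr.L2
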