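import Mathlib
import Cfsg.Agent.S5596
import Cfsg.Agent.Cl.LinearBasic
import Cfsg.Agent.GT.PGroupElemAb
import Cfsg.Agent.Gr.MonMT
import Cfsg.Agent.Gr.L2.Four
import Cfsg.Agent.Gr.L2.FiveD

/-! The normaliser `2^{5+10+20}.(S3 × L5(2))` in a group of Monster type. -/

set_option autoImplicit false

namespace Cfsg.Agent.Gr.L2

open Subgroup Cfsg.Agent.Spor Cfsg.Agent.Spor.MT Cfsg.Agent.Spor.Leech

variable {G : Type*} [Group G] [Finite G]

theorem pCore_of_center {A : Type*} [Group A] [IsSimpleGroup A] [Finite A] (h : center A = ⊥) : pCore 2 A = ⊥ := by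
  refine ((inferInstance : (pCore 2 A).Normal).eq_bot_or_eq_top).resolve_right fun e => ?_
  have : Fact (Nat.Prime 2) := ⟨Nat.prime_two⟩
  exact (nontrivial_iff_ne_bot _).1 (GT.pCore_eq_top_iff.1 e).center_nontrivial h

theorem pCore_sl (n : ℕ) : pCore 2 (Matrix.SpecialLinearGroup (Fin (n + 3)) (ZMod 2)) = ⊥ :=
  have h := Cl.center_sl_eq_bot_of_card_two (ι := Fin (n + 3)) (F := ZMod 2) (by simp)
  have := Cl.psl_fin_isSimpleGroup (F := ZMod 2) (n := n + 3) (by omega) (by omega)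
  have := (Cl.centerQuotEquivOfEqBot h).symm.isSimpleGroup
  pCore_of_center h

/-- The normaliser of a singular subgroup. -/
theorem singular_prod {z : G} (hz : orderOf z = 2) (hE : IsExtraspecial 2 (pCoreOf 2 (centralizer ({z} : Set G))))
    (hC : centralizer ((pCoreOf 2 (centralizer ({z} : Set G)) : Subgroup G) : Set G) ≤
      pCoreOf 2 (centralizer ({z} : Set G)))
    {U : Subgroup G} (hU2 : ∀ u ∈ U, u * u = 1) (hS : ∀ u ∈ U, u ≠ 1 → ∃ g : G, g * z * g⁻¹ = u)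
    (hO : ∀ u ∈ U, ∀ v ∈ U, u ≠ 1 → v ≠ 1 → v ∈ pCoreOf 2 (centralizer ({u} : Set G)))
    {n : ℕ} (hn : 2 ≤ n) (hcard : Nat.card U = 2 ^ n) {B : Type*} [Group B] (hB : center B = ⊥)
    (μ : centralizer (U : Set G) →* B) (hs : Function.Surjective μ)
    (hμ : ∀ x, μ x = 1 ↔ (x : G) ∈ pCoreOf 2 (centralizer (U : Set G))) :
    ∃ Φ : normalizer (U : Set G) →* B × Matrix.SpecialLinearGroup (Fin n) (ZMod 2), Function.Surjective Φ ∧
      ∀ x, Φ x = 1 ↔ (x : G) ∈ pCoreOf 2 (centralizer (U : Set G)) := by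
  obtain ⟨-, -, h1, h2⟩ := S5596.result (fun x => pCoreOf 2 (centralizer ({x} : Set G))) (fun _ => rfl) z hz hE hC
    U hU2 hS hO _ _ rfl rfl n hn hcard
  obtain ⟨ε⟩ := GT.PG.nonempty_mulAut_equiv_GL (G := U) (p := 2) (n := n)
    ⟨⟨fun a b => Subtype.ext (comm_of_sq_eq_one hU2 a.2 b.2)⟩⟩ (fun x => Subtype.ext (by
      rw [pow_two]; exact hU2 x x.2)) hcard
  let ε' := ε.trans (Cl.slEquivGLOfCardTwo (by simp)).symm
  have hle := GT.pCoreOf_le (p := 2) (centralizer (U : Set G))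
  let S : Subgroup G :=
    { carrier := {x | x ∈ normalizer (U : Set G) ∧ ∀ c ∈ centralizer (U : Set G),
        x * c * x⁻¹ * c⁻¹ ∈ pCoreOf 2 (centralizer (U : Set G))}
      one_mem' := ⟨one_mem _, fun x _ => by simp⟩
      mul_mem' := by
        rintro a b ⟨ha, ha'⟩ ⟨hb, hb'⟩
        refine ⟨mul_mem ha hb, fun c hc => ?_⟩
        have := mul_mem (mul_mem (ha' _ (hle (hb' c hc))) (hb' c hc)) (ha' c hc)
        convert this using 1; group
      inv_mem' := by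
        rintro a ⟨ha, ha'⟩
        refine ⟨inv_mem ha, fun c hc => ?_⟩
        have := inv_mem (ha' _ (ESPair.conj_mem_C (inv_mem ha) hc))
        convert this using 1; group }
  have h3 : ⨆ u ∈ (U : Set G) \ {1}, pCoreOf 2 (centralizer ({u} : Set G)) ≤ S := iSup₂_le fun u hu q hq => by
    have hq' : q ∈ normalizer (U : Set G) :=
      h1 (le_iSup₂_of_le (f := fun u (_ : u ∈ (U : Set G) \ {1}) => pCoreOf 2 (centralizer ({u} : Set G))) u hu le_rfl hq)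
    have k : ∀ c ∈ centralizer (U : Set G), ∀ y ∈ pCoreOf 2 (centralizer ({u} : Set G)),
        c * y * c⁻¹ ∈ pCoreOf 2 (centralizer ({u} : Set G)) := fun c hc y hy =>
      (mem_normalizer_iff.1 (GT.le_normalizer_pCoreOf _ (mem_centralizer_singleton.2 (hc u hu.1))) y).1 hy
    refine ⟨hq', fun c hc => GT.le_pCoreOf (N := pCoreOf 2 (centralizer {u}) ⊓ centralizer (U : Set G)) inf_le_right
      (fun d hd => mem_normalizer_fintype fun y hy => mem_inf.2 ⟨k d hd y hy.1, mul_mem (mul_mem hd hy.2) (inv_mem hd)⟩)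
      ((GT.isPGroup_pCoreOf 2 _).to_le inf_le_left)
      (mem_inf.2 ⟨?_, mul_mem (ESPair.conj_mem_C hq' hc) (inv_mem hc)⟩)⟩
    simpa only [mul_assoc] using mul_mem hq (k c hc _ (inv_mem hq))
  refine exists_prod_hom (X := S) (centralizer_le_normalizer _) hle (ε'.toMonoidHom.comp U.normalizerMonoidHom)
    (fun x => ?_) (fun a => ?_) μ hμ hs (fun x hx => hx.2) fun x hx hc => (hμ ⟨x, hc⟩).1 ?_
  · rw [← MonoidHom.mem_ker, MonoidHom.ker_comp_of_injective _ _ ε'.injective, normalizerMonoidHom_ker, mem_subgroupOf]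
  · obtain ⟨g, hg, e⟩ := h2 (ε'.symm a)
    refine ⟨⟨g, h1 hg⟩, ?_, h3 hg⟩
    rw [← ε'.apply_symm_apply a]
    exact congrArg ε' (MulEquiv.ext fun u => Subtype.ext (e u))
  · rw [← mem_bot, ← hB, Subgroup.mem_center_iff]
    intro b
    obtain ⟨c, rfl⟩ := hs b
    have := (hμ (⟨x, hc⟩ * c * ⟨x, hc⟩⁻¹ * c⁻¹)).2 (hx.2 c c.2)
    rw [map_mul, map_mul, map_mul, map_inv, map_inv, mul_inv_eq_one, mul_inv_eq_iff_eq_mul] at this
    exact this.symm

variable {Q R : Subgroup G} {z s : G} {π : centralizer ({z} : Set G) →* Cfsg.Spor.Co1} {r : Λ → G}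

theorem core_eq (h : MData Q z π r) : pCoreOf 2 (centralizer ({z} : Set G)) = Q := by
  rw [pCoreOf, BM.pCore_eq h, map_subgroupOf_eq_of_le (BM.Q_le h)]

theorem pair_core (h : MData Q z π r) (hs : s ∈ Q) (hne : s ≠ z) (hc : IsConj z s) :
    ESPair Q (pCoreOf 2 (centralizer ({s} : Set G))) z s := by
  obtain ⟨g, rfl⟩ := isConj_iff.1 hc
  rw [pCoreOf_centralizer_conj, core_eq h]
  exact h.pair hs hne

theorem min_mem (h : MData Q z π r) (hp : ESPair Q R z s) {v w : Λ} (hv : nm v = 32) (hw : nm w = 32)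
    (h0 : ip v w = 0) (hs : Eqv z s (r (v + w))) : r v ∈ R := by
  obtain ⟨g, h1, h2⟩ := exists_orth_pair hv hw h0 none_ne_zero
  refine (h.remark g⁻¹).v44_mem hp (p := none) ?_ none_ne_zero ?_
  · rwa [← v44_add_v44 none (some 0), ← h1, ← h2, ← smul_add, inv_smul_smul]
  · rw [← h1, inv_smul_smul]; exact Eqv.rfl' _ _

theorem mem_of_eqv' {A : Subgroup G} (hz : z ∈ A) {a b : G} (e : Eqv z a b) (hb : b ∈ A) : a ∈ A := by
  rcases e with rfl | rfl
  exacts [hb, mul_mem hz hb]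

/-- The elementary abelian group of order 32. -/
def E5 (h : MData Q z π r) : Subgroup G where
  carrier := {x | ∃ n < 16, Eqv z x (r (uv n))}
  one_mem' := ⟨0, by norm_num, ((h.r_one _).2 cg_uv_zero).symm h.zz⟩
  mul_mem' := by
    rintro a b ⟨n, hn, ha⟩ ⟨k, hk, hb⟩
    exact ⟨n ^^^ k, Nat.xor_lt_two_pow (n := 4) hn hk,
      (ha.mul h.zz hb (h.es.z_comm _ (h.mem_of_eqv ha))).trans h.zz
        (((h.eqv_iff.2 (cg_uv_xor hn hk)).trans h.zz (h.r_add _ _)).symm h.zz)⟩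
  inv_mem' := by
    rintro a ⟨n, hn, ha⟩
    exact ⟨n, hn, (h.es.aes.eqv_inv (h.mem_of_eqv ha)).trans h.zz ha⟩

omit [Finite G] in
theorem E5_le (h : MData Q z π r) : E5 h ≤ Q := fun _ ⟨_, _, ha⟩ => h.mem_of_eqv ha

omit [Finite G] in
theorem z_mem_E5 (h : MData Q z π r) : z ∈ E5 h :=
  ⟨0, by norm_num, Eqv.trans h.zz (Or.inr (mul_one z).symm) (((h.r_one _).2 cg_uv_zero).symm h.zz)⟩

omit [Finite G] in
theorem card_E5 (h : MData Q z π r) : Nat.card (E5 h) = 2 ^ 5 := by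
  let f : Bool × Fin 16 → E5 h := fun a => ⟨if a.1 then z * r (uv a.2) else r (uv a.2), a.2, a.2.2, by
    split_ifs
    exacts [Or.inr rfl, Or.inl rfl]⟩
  have k : ∀ a, Eqv z (f a : G) (r (uv a.2)) := fun a => by
    simp only [f]
    split_ifs
    exacts [Or.inr rfl, Or.inl rfl]
  refine (Nat.card_eq_of_bijective f ⟨fun a b e => ?_, ?_⟩).symm.trans (by simp)
  · have e1 : a.2 = b.2 := Fin.ext (uv_inj a.2.2 b.2.2 (h.eqv_iff.1 (((k a).symm h.zz).trans h.zz (e ▸ k b))))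
    obtain ⟨a, n⟩ := a
    obtain ⟨b, m⟩ := b
    obtain rfl : n = m := e1
    have e2 := congrArg Subtype.val e
    have := h.es.z_ne
    cases a <;> cases b <;> simp_all [f]
  · rintro ⟨x, n, hn, e | e⟩
    exacts [⟨(false, ⟨n, hn⟩), Subtype.ext e.symm⟩, ⟨(true, ⟨n, hn⟩), Subtype.ext e.symm⟩]

theorem E5_le_of_pair (h : MData Q z π r) (hp : ESPair Q R z s) (hs : s ∈ E5 h) : E5 h ≤ R := by
  obtain ⟨n, hn, hs⟩ := hs
  have h0 : n ≠ 0 := by
    rintro rfl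
    rcases hs.trans h.zz ((h.r_one _).2 cg_uv_zero) with e | e
    exacts [hp.esR.z_ne e, hp.ne (by rw [e, mul_one])]
  have key : ∀ k < 16, r (uv k) ∈ R := uv_ind (mem_of_eqv' hp.z_mem ((h.r_one _).2 cg_uv_zero) (one_mem _))
    (fun j hj => by
      obtain ⟨v, v', ⟨a1, w, a2, a3, a4⟩, ⟨b1, w', b2, b3, b4⟩, c⟩ := exists_split hn h0 hj
      exact mem_of_eqv' hp.z_mem ((h.eqv_iff.2 c).trans h.zz (h.r_add _ _))
        (mul_mem (min_mem h hp a1 a2 a3 (hs.trans h.zz (h.eqv_iff.2 a4)))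
          (min_mem h hp b1 b2 b3 (hs.trans h.zz (h.eqv_iff.2 b4)))))
    fun a ha b hb x y => mem_of_eqv' hp.z_mem ((h.eqv_iff.2 (cg_uv_xor ha hb)).trans h.zz (h.r_add _ _)) (mul_mem x y)
  exact fun x ⟨k, hk, e⟩ => mem_of_eqv' hp.z_mem e (key k hk)

theorem isConj_E5 (h : MData Q z π r) (hw : ∃ g : G, g * z * g⁻¹ ∈ Q ∧ g * z * g⁻¹ ≠ z) {e : G} (he : e ∈ E5 h)
    (h1 : e ≠ 1) : IsConj z e := by
  obtain ⟨n, hn, he⟩ := he
  by_cases h0 : n = 0
  · subst h0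
    rcases he.trans h.zz ((h.r_one _).2 cg_uv_zero) with k | k
    · exact absurd k h1
    · rw [k, mul_one]
  · exact h.isConj_of_type_four hw he (nm_uv hn h0)

omit [Finite G] in
theorem cg_of_cent (h : MData Q z π r) {x : centralizer ({z} : Set G)} (hx : (x : G) ∈ centralizer (E5 h : Set G))
    {g : Co0} (hg : pr g = π x) : ∀ n < 16, Cg (g • uv n) (uv n) := fun n hn =>
  h.cg_of_comm (Eqv.rfl' _ _) (hx _ ⟨n, hn, Eqv.rfl' _ _⟩) hg

theorem exists_cent (h : MData Q z π r) {g : Co0} (hg : ∀ n < 16, Cg (g • uv n) (uv n)) :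
    ∃ x : centralizer ({z} : Set G), pr g = π x ∧ (x : G) ∈ centralizer (E5 h : Set G) := by
  obtain ⟨x, hx⟩ := h.exists_lift g
  have hz := MData.z_comm_coe x
  have k : ∀ a ∈ E5 h, a ∉ centralizer ({(x : G)} : Set G) → x * a * (x : G)⁻¹ = z * a := fun a ⟨n, hn, ha⟩ c =>
    (((ha.conj hz).trans h.zz (((h.r_smul x g hx _).symm h.zz).trans h.zz (h.eqv_iff.2 (hg n hn)))).trans h.zz
      (ha.symm h.zz)).resolve_left fun e => c (mem_centralizer_singleton.2 (mul_inv_eq_iff_eq_mul.1 e))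
  obtain ⟨q, hq, e⟩ := h.es.exists_comm_iff (E5_le h) (centralizer {(x : G)}) (fun a ha b hb c d => by
    refine mem_centralizer_singleton.2 (mul_inv_eq_iff_eq_mul.1 ?_)
    calc x * (a * b) * (x : G)⁻¹ = x * a * (x : G)⁻¹ * (x * b * (x : G)⁻¹) := by group
      _ = z * (a * z) * b := by rw [k a ha c, k b hb d]; group
      _ = _ := by rw [← h.es.z_comm a (E5_le h ha), h.es.z_mul_z_mul]) fun _ => mem_centralizer_singleton.2 hz.symm
  let q' : centralizer ({z} : Set G) := ⟨q, BM.Q_le h hq⟩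
  refine ⟨x * q', by rw [map_mul, (h.ker q').2 hq, mul_one, hx], fun a ha => (mul_inv_eq_iff_eq_mul.1 ?_).symm⟩
  change x * q * a * (x * q)⁻¹ = a
  have e0 : x * q * a * (x * q)⁻¹ = x * (q * a * q⁻¹) * (x : G)⁻¹ := by group
  by_cases c : a ∈ centralizer ({(x : G)} : Set G)
  · rw [e0, (e a ha).2 c, mul_inv_cancel_right, mem_centralizer_singleton.1 c, mul_inv_cancel_right]
  · rw [e0, h.es.aes.conj_of_ne hq (E5_le h ha) (mt (e a ha).1 c), ← mul_assoc, ← hz, mul_assoc z, mul_assoc z,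
      k a ha c, h.es.z_mul_z_mul]

theorem card_rad_cent (h : MData Q z π r) (hp : ESPair Q R z s) (hs : s ∈ E5 h) :
    Nat.card ↥(((R ⊓ centralizer {z}) ⊔ (Q ⊓ centralizer {s})) ⊓ centralizer (E5 h : Set G)) = 2 ^ 29 := by
  have hR := E5_le_of_pair h hp hs
  have hz := z_mem_E5 h
  have h0 : Nat.card R = 2 ^ 25 := by
    obtain ⟨g, rfl, -⟩ := hp.conj
    rw [card_map_of_injective (MulAut.conj g).injective, h.card]
  have h1 := h.es.card_mul_card_centralizer (E5_le h) hz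
  have h2 := hp.esR.card_mul_card_centralizer hR hs
  have h3 := GT.card_sup_mul_card_inf_of_le_normalizer (H := Q ⊓ centralizer (E5 h : Set G))
    (N := R ⊓ centralizer (E5 h : Set G)) fun q hq => mem_normalizer_fintype fun y hy =>
      mem_inf.2 ⟨hp.lgR.norm q (hq.2 s hs) y hy.1, mul_mem (mul_mem hq.2 hy.2) (inv_mem (mem_inf.1 hq).2)⟩
  have h4 : Q ⊓ centralizer (E5 h : Set G) ⊓ (R ⊓ centralizer (E5 h : Set G)) = Q ⊓ R :=
    le_antisymm (fun _ hx => ⟨hx.1.1, hx.2.1⟩) fun x hx =>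
      have : x ∈ centralizer (E5 h : Set G) := fun y hy => hp.E_comm ⟨E5_le h hy, hR hy⟩ hx
      ⟨⟨hx.1, this⟩, hx.2, this⟩
  have h5 : ((R ⊓ centralizer {z}) ⊔ (Q ⊓ centralizer {s})) ⊓ centralizer (E5 h : Set G) =
      Q ⊓ centralizer (E5 h : Set G) ⊔ R ⊓ centralizer (E5 h : Set G) := by
    refine le_antisymm (fun x hx => ?_) (sup_le
      (fun x hx => ⟨mem_sup_right ⟨hx.1, mem_centralizer_singleton.2 (hx.2 s hs)⟩, hx.2⟩)
      fun x hx => ⟨mem_sup_left ⟨hx.1, mem_centralizer_singleton.2 (hx.2 z hz)⟩, hx.2⟩)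
    obtain ⟨a, ha, b, hb, rfl⟩ := hp.exists_mul_of_mem_rad hx.1
    have k : b ∈ centralizer (E5 h : Set G) := fun e he => by
      refine (mul_inv_eq_iff_eq_mul.1 ((h.es.aes.conj_eq hb.1 (E5_le h he)).resolve_right fun k1 => ?_)).symm
      have k2 : a⁻¹ * e * a⁻¹⁻¹ = b * e * b⁻¹ := by
        calc _ = a⁻¹ * (e * (a * b)) * b⁻¹ := by group
          _ = _ := by rw [hx.2 e he]; group
      rcases hp.esR.aes.conj_eq (inv_mem ha.1) (hR he) with k3 | k3 <;> rw [k2, k1] at k3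
      exacts [h.es.z_ne (by simpa using k3), hp.ne (mul_right_cancel k3)]
    exact mul_mem (mem_sup_right ⟨ha.1, (mul_mem_cancel_right k).1 hx.2⟩) (mem_sup_left ⟨hb.1, k⟩)
  rw [h4, h.card_E hp, show Nat.card ↥(Q ⊓ centralizer (E5 h : Set G)) = 2 ^ 21 by
    rw [card_E5, h.card] at h1; omega, show Nat.card ↥(R ⊓ centralizer (E5 h : Set G)) = 2 ^ 21 by
    rw [card_E5, h0] at h2; omega] at h3
  rw [h5]; omega

theorem exists_nu (h : MData Q z π r) (hp : ESPair Q R z s) (hv : Eqv z s (r (e8 none))) :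
    ∃ ν : centralizer (E5 h : Set G) →* K3, Function.Surjective ν ∧ Nat.card ν.ker = 2 ^ 29 := by
  have hs : s ∈ E5 h := ⟨8, by norm_num, uv_eight ▸ hv⟩
  let ι : centralizer (E5 h : Set G) →* centralizer ({z} : Set G) :=
    inclusion fun x hx => mem_centralizer_singleton.2 (hx z (z_mem_E5 h))
  have hι : ∀ x, s * ι x = ι x * s := fun x => x.2 s hs
  have hM : ∀ x, ∃ b ∈ Sgn, ∃ σ, pr (b * perm σ) = π (ι x) := fun x => by
    obtain ⟨g, hg, e⟩ : π (ι x) ∈ Mon.map pr :=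
      h.stab_eq hp hv ▸ mem_map_of_mem π (mem_centralizer_singleton.2 (hι x))
    obtain ⟨b, hb, σ, rfl⟩ := exists_Sgn_mul_perm hg
    exact ⟨b, hb, σ, e⟩
  obtain ⟨μ, hμ⟩ := exists_mu (π.comp ι) fun x =>
    let ⟨b, hb, σ, e⟩ := hM x
    ⟨_, mul_mem (Sgn_le_Mon hb) (perm_mem_Mon σ), e⟩
  let ν : centralizer (E5 h : Set G) →* K3 := (M24.subtype.comp μ).codRestrict _ fun x => by
    obtain ⟨_, ⟨c, hc, rfl⟩, σ, e⟩ := hM x
    change (μ x).1 ∈ K3
    rw [hμ x _ ⟨c, hc, rfl⟩ σ e]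
    exact mem_K3_of_cg (cg_of_cent h (x := ι x) x.2 e)
  refine ⟨ν, fun σ => ?_, ?_⟩
  · obtain ⟨x, e, hx⟩ := exists_cent h (cg_of_mem_K3 (σ := ⟨σ, K3_le σ.2⟩) σ.2)
    have := hμ ⟨x, hx⟩ 1 (one_mem _) _ (by rw [one_mul]; exact e)
    exact ⟨⟨x, hx⟩, Subtype.ext (congrArg Subtype.val this :)⟩
  · rw [← card_rad_cent h hp hs, ← subgroupOf_map_subtype, card_map_of_injective (subtype_injective _)]
    congr 2
    ext x
    obtain ⟨b, hb, σ, e⟩ := hM x
    rw [mem_subgroupOf, MonoidHom.mem_ker, Subtype.ext_iff]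
    refine Iff.trans ?_ (mem_rad_iff h hp hv (hι x)).symm
    change (μ x).1 = 1 ↔ _
    rw [hμ x b hb σ e, ← e, mem_map_pr center_le_Sgn, Sgn.mul_mem_cancel_left hb, OneMemClass.coe_eq_one]
    exact ⟨fun k => by rw [k, map_one]; exact one_mem _, eq_one_of_perm_mem_Sgn⟩

theorem center_eq_E5 (h : MData Q z π r) (h2 : ∀ x ∈ E5 h, x * x = 1) {O : Subgroup G}
    (hO : O ≤ centralizer (E5 h : Set G)) (hQ : Q ⊓ centralizer (E5 h : Set G) ≤ O) :
    (center O).map O.subtype = E5 h := by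
  refine le_antisymm ?_ fun e he => ⟨⟨e, hQ ⟨E5_le h he, fun y hy => comm_of_sq_eq_one h2 hy he⟩⟩,
    mem_center_iff.2 fun a => Subtype.ext (hO a.2 e he).symm, rfl⟩
  rintro _ ⟨x, hx, rfl⟩
  have k : ∀ y ∈ Q ⊓ centralizer (E5 h : Set G), y * x = x * y := fun y hy =>
    congrArg Subtype.val (mem_center_iff.1 hx ⟨y, hQ hy⟩)
  let x' : centralizer ({z} : Set G) := ⟨x, mem_centralizer_singleton.2 (hO x.2 z (z_mem_E5 h))⟩
  obtain ⟨g, hg⟩ := pr_surjective (π x')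
  refine h.es.mem_of_comm_centralizer (E5_le h) (z_mem_E5 h) ((h.ker x').1 (hg ▸ pr_eq_one_of_v44 fun i j _ =>
    h.cg_of_comm (Eqv.rfl' _ _) (k _ ⟨h.r_mem _, fun y ⟨n, hn, hy⟩ =>
      (h.comm_iff' hy (Eqv.rfl' _ _)).2 (dvd_ip_uv hn i j)⟩) hg)) fun y hy c => k y ⟨hy, fun a ha => (c a ha).symm⟩

theorem five (h : MData Q z π r) {a : G} (h1 : a * z * a⁻¹ ∈ Q) (h2 : a * z * a⁻¹ ≠ z) :
    ∃ (E N : Subgroup G) (O : Subgroup N), IsElementaryAbelian 2 E ∧ Nat.card E = 2 ^ 5 ∧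
      N = normalizer (E : Set G) ∧ O = pCore 2 N ∧ Nat.card O = 2 ^ 35 ∧
      (center O).map O.subtype = E.subgroupOf N ∧
      ∃ _ : O.Normal, Nonempty (N ⧸ O ≃* Equiv.Perm (Fin 3) × Matrix.SpecialLinearGroup (Fin 5) (ZMod 2)) := by
  have : Fact (Nat.Prime 2) := ⟨Nat.prime_two⟩
  have hw : ∃ g : G, g * z * g⁻¹ ∈ Q ∧ g * z * g⁻¹ ≠ z := ⟨a, h1, h2⟩
  have hp := h.pair h1 h2
  generalize a * z * a⁻¹ = s, Q.map (MulAut.conj a).toMonoidHom = R at hp
  obtain ⟨k, hv⟩ := h.exists_e8 hp none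
  replace h := h.remark k
  generalize (MulAut.conj (pr k)⁻¹).toMonoidHom.comp π = π at h
  have hR := E5_le_of_pair h hp ⟨8, by norm_num, uv_eight ▸ hv⟩
  have h3 : ∀ x ∈ E5 h, x * x = 1 := fun x hx => hp.E_sq ⟨E5_le h hx, hR hx⟩
  obtain ⟨ν, n1, n2⟩ := exists_nu h hp hv
  obtain ⟨ρ, r1⟩ := exists_rho
  have m1 : Function.Surjective (ρ.comp ν) := r1.comp n1
  have c1 := card_mul_index ν.ker
  have c2 := card_mul_index (ρ.comp ν).ker
  rw [index_ker, MonoidHom.range_eq_top.2 n1, card_top, card_K3, n2] at c1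
  rw [index_ker, MonoidHom.range_eq_top.2 m1, card_top, Nat.card_perm, ← c1] at c2
  have c3 : Nat.card (ρ.comp ν).ker = 2 ^ 35 := by
    rw [Nat.card_fin, show Nat.factorial 3 = 6 from rfl] at c2; omega
  have m2 : (ρ.comp ν).ker = pCore 2 _ := le_antisymm (GT.le_pCore (IsPGroup.of_card c3)) (by
    rw [← Subgroup.map_eq_bot_iff]
    exact GT.pCore_eq_bot_iff.1 pCore_two_perm3 _ ((inferInstance : (pCore 2 _).Normal).map _ m1)
      ((GT.isPGroup_pCore 2).map _))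
  obtain ⟨Φ, b1, b2⟩ := singular_prod h.es.orderOf_z (core_eq h ▸ h.es.isExtraspecial)
    (core_eq h ▸ h.lg.centralizer_le) h3 (fun u hu c => isConj_iff.1 (isConj_E5 h hw hu c))
    (fun u hu v hv c _ => by
      by_cases d : u = z
      · rw [d, core_eq h]; exact E5_le h hv
      · exact E5_le_of_pair h (pair_core h (E5_le h hu) d (isConj_E5 h hw hu c)) hu hv)
    (by norm_num) (card_E5 h) (B := Equiv.Perm (Fin 3))
    (eq_bot_iff.2 fun x hx => (by decide +kernel : ∀ x : Equiv.Perm (Fin 3), (∀ y, y * x = x * y) → x = 1) x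
      (mem_center_iff.1 hx)) (ρ.comp ν) m1
    fun x => by rw [← MonoidHom.mem_ker, m2, ← GT.pCoreOf_subgroupOf, mem_subgroupOf]
  obtain ⟨O, hO⟩ := shape ((GT.pCoreOf_le _).trans (centralizer_le_normalizer _))
    ((GT.card_pCoreOf _).trans (m2 ▸ c3)) (center_eq_E5 h h3 (GT.pCoreOf_le _) (GT.le_pCoreOf inf_le_right
      (fun d hd => mem_normalizer_fintype fun y hy =>
        mem_inf.2 ⟨h.lg.norm d (hd z (z_mem_E5 h)) y hy.1, mul_mem (mul_mem hd hy.2) (inv_mem hd)⟩)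
      (h.es.isPGroup.to_le inf_le_left))) (pCore_prod pCore_two_perm3 (pCore_sl 2)) Φ b1 b2
  exact ⟨_, _, O, ⟨⟨⟨fun x y => Subtype.ext (comm_of_sq_eq_one h3 x.2 y.2)⟩⟩, fun x hx => by rw [pow_two, h3 x hx]⟩,
    card_E5 h, rfl, hO⟩

end Cfsg.Agent.Gr.L2
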