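import Mathlib
import Cfsg.Agent.Spor.MTFix
import Cfsg.Agent.Gr.L2.FiveD

/-! The sublattice of the Leech lattice supported on an octad. -/

set_option autoImplicit false
set_option maxRecDepth 100000

namespace Cfsg.Agent.Gr.L2

open Finset Cfsg.Agent.Spor Cfsg.Agent.Spor.Leech Cfsg.Agent.Spor.LC Cfsg.Agent.Spor.MT
open Cfsg.Agent.Spor.Golay (ptIdx ptOf maskSet ptIdx_lt mem_maskSet)
open scoped Pointwise symmDiff

/-- The octad. -/
def O8 : Finset GolayPt := maskSet 8536111

theorem O8_code : IsCode O8 := isCode_gb (i := 4) (by norm_num)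

theorem card_O8 : O8.card = 8 := card_gb (i := 4) (by norm_num)

theorem O8_octad : O8 ∈ octads := mem_octads.2 ⟨O8_code, card_O8⟩

theorem none_mem_O8 : none ∈ O8 := by decide +kernel

theorem four_notMem_O8 : some 4 ∉ O8 := by decide +kernel

/-- The sign change on the octad. -/
noncomputable def eps : Co0 := sign O8 O8_code

/-- The vector `2^8`. -/
def x0 : Λ := two O8 O8_code

/-- The vectors supported on the octad. -/
def LO : AddSubgroup Λ where
  carrier := {x | ∀ i ∉ O8, (x : Vec) i = 0}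
  zero_mem' := fun _ _ => rfl
  add_mem' := fun ha hb i hi => by simp [ha i hi, hb i hi]
  neg_mem' := fun ha i hi => by simp [ha i hi]

theorem mem_LO_iff {x : Λ} : x ∈ LO ↔ eps • x = -x := by
  refine ⟨fun h => Subtype.ext (funext fun i => ?_), fun h i hi => ?_⟩
  · rw [eps, sign_apply]
    split_ifs with hi
    · rfl
    · simp [h i hi]
  · have := congrArg (fun y : Λ => (y : Vec) i) h
    simp only [eps, sign_apply, if_neg hi, AddSubgroup.coe_neg, Pi.neg_apply] at this
    omega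

theorem smul_mem_LO {g : Co0} (hg : g * eps = eps * g) {x : Λ} (hx : x ∈ LO) : g • x ∈ LO := by
  rw [mem_LO_iff, ← mul_smul, ← hg, mul_smul, mem_LO_iff.1 hx, smul_neg]

theorem x0_mem : x0 ∈ LO := fun i hi => by rw [x0, two_apply, if_neg hi]

theorem nm_x0 : nm x0 = 32 := by rw [x0, nm_two, card_O8]; rfl

theorem e8_mem : e8 none ∈ LO := fun i hi => by rw [e8_apply, if_neg (ne_of_mem_of_not_mem none_mem_O8 hi).symm]

theorem v44_mem_LO {i j : GolayPt} (hi : i ∈ O8) (hj : j ∈ O8) (s t : ℤˣ) : v44 i j s t ∈ LO := fun k hk => by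
  rw [v44_apply, if_neg (ne_of_mem_of_not_mem hi hk).symm, if_neg (ne_of_mem_of_not_mem hj hk).symm, add_zero]

theorem sub_mem_LO (v : Λ) : v - eps • v ∈ LO := fun i hi => by simp [eps, sign_apply, hi]

theorem uv_mem {n : ℕ} (h : n < 16) : uv n ∈ LO := fun i hi => by
  rw [uv_apply h, (by decide +kernel : ∀ n < 16, ∀ i < 24, (8536111).testBit i = true ∨ dg (uc n) i = 8) n h _
    (ptIdx_lt i) |>.resolve_left (mt (mem_maskSet _ _).2 hi)]
  rfl

theorem evenL_empty {x : Λ} (h : ∀ i, (x : Vec) i % 4 = 0) : EvenL x ∅ := by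
  obtain ⟨c, hc⟩ := evenL_of_even x.2 (i := none) (by have := h none; omega)
  rwa [show c = ∅ from eq_empty_of_forall_notMem fun i hi => by have := (hc.mem_iff i).1 hi; have := h i; omega] at hc

theorem LO_cases {x : Λ} (hx : x ∈ LO) : (∀ i, (x : Vec) i % 4 = 0) ∨ ∀ i, ((x - x0 : Λ) : Vec) i % 4 = 0 := by
  obtain ⟨c, hc⟩ := evenL_of_even x.2 (i := some 4) (by rw [hx _ four_notMem_O8]; rfl)
  rcases c.eq_empty_or_nonempty with rfl | h
  · exact Or.inl fun i => by simpa using hc.2.1 i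
  obtain rfl : c = O8 := eq_of_subset_of_card_le (fun i hi => by_contra fun k => by
    have := (hc.mem_iff i).1 hi; rw [hx i k] at this; omega) (card_O8 ▸ hc.1.eight_le h)
  refine Or.inr fun i => ?_
  have := hc.2.1 i
  simp only [AddSubgroup.coe_sub, Pi.sub_apply, x0, two_apply]
  split_ifs at this ⊢ <;> omega

theorem LO_le {A : AddSubgroup Λ} (h0 : x0 ∈ A) (h2 : e8 none ∈ A) (h1 : ∀ i ∈ O8, v44 i none 1 (-1) ∈ A) :
    LO ≤ A := by
  have k : ∀ x ∈ LO, (∀ i, (x : Vec) i % 4 = 0) → x ∈ A := fun x hx h => by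
    obtain ⟨y, hy⟩ : ∃ y : Vec, ∀ i, (x : Vec) i = 4 * y i :=
      ⟨fun i => (x : Vec) i / 4, fun i => by have := h i; beta_reduce; omega⟩
    have h3 := (evenL_empty h).2.2
    simp only [hy, ← mul_sum] at h3
    obtain ⟨k, hk⟩ : ∃ k, ∑ i, y i = 2 * k := ⟨(∑ i, y i) / 2, by omega⟩
    have : x = ∑ i, y i • v44 i none 1 (-1) + k • e8 none := by
      ext j
      simp only [AddSubgroup.coe_add, AddSubgroup.coe_zsmul, Pi.smul_apply, smul_eq_mul,
        AddSubgroup.val_finsetSum, Finset.sum_apply, Pi.add_apply, e8_apply, v44_apply, mul_add,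
        sum_add_distrib, mul_ite, mul_zero, sum_ite_eq, mem_univ, if_true, hy]
      split_ifs
      · rw [← sum_mul, hk]; simp; ring
      · simp; ring
    rw [this]
    refine add_mem (sum_mem fun i _ => ?_) (zsmul_mem h2 _)
    by_cases hi : i ∈ O8
    · exact zsmul_mem (h1 i hi) _
    · rw [show y i = 0 by have := hx i hi; have := hy i; omega, zero_smul]; exact zero_mem _
  intro x hx
  rcases LO_cases hx with h | h
  exacts [k x hx h, sub_add_cancel x x0 ▸ add_mem (k _ (sub_mem hx x0_mem) h) h0]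

theorem dvd_ip_LO {x y : Λ} (hx : x ∈ LO) (hy : y ∈ LO) : (16 : ℤ) ∣ ip x y := by
  let A : AddSubgroup Λ :=
    { carrier := {x | (16 : ℤ) ∣ ip x y}
      zero_mem' := by simp [ip_zero_left]
      add_mem' := fun ha hb => by rw [Set.mem_ofPred_eq, ip_add_left]; exact dvd_add ha hb
      neg_mem' := fun ha => by rw [Set.mem_ofPred_eq, ip_neg_left]; exact dvd_neg.2 ha }
  obtain ⟨c, hc⟩ := evenL_of_even y.2 (i := some 4) (by rw [hy _ four_notMem_O8]; rfl)
  refine LO_le (A := A) (show _ ∣ ip _ _ from ?_) (show _ ∣ ip _ _ from ?_) (fun i hi => show _ ∣ ip _ _ from ?_) hx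
  · rw [ip_comm, x0, ip_two, sum_subset (subset_univ _) fun i _ hi => hy i hi]
    have := hc.2.2; omega
  · rw [e8_ip]; have := hc.even none; omega
  · rw [ip_comm, ip_v44]
    rcases LO_cases hy with h | h <;> have a := h i <;> have b := h none
    · simp; omega
    · simp only [AddSubgroup.coe_sub, Pi.sub_apply, x0, two_apply, if_pos hi, if_pos none_mem_O8] at a b
      simp; omega

theorem dvd_nm_LO {x : Λ} (hx : x ∈ LO) : (32 : ℤ) ∣ nm x := by
  rcases LO_cases hx with h | h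
  · exact (evenL_empty h).dvd_of_empty
  have a : (32 : ℤ) ∣ nm (x - x0) := (evenL_empty h).dvd_of_empty
  have b := dvd_ip_LO hx x0_mem
  rw [nm_sub, nm_x0] at a
  omega

theorem ip_eps (v w : Λ) : ip (eps • v) w = ip v (eps • w) := by rw [ip_smul_left, eps, sign_inv]

theorem cg_eps {v : Λ} (h : ∀ x ∈ LO, (16 : ℤ) ∣ ip x v) : Cg (eps • v) v :=
  (cg_iff_sub.2 (cg_zero_of_dvd fun l _ => by
    rw [ip_sub_left, ip_eps, ← ip_sub_right, ip_comm]; exact h _ (sub_mem_LO _))).symm

theorem exists_sub {x : Λ} (hx : x ∈ LO) : ∃ v, x = v - eps • v := by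
  let A : AddSubgroup Λ :=
    { carrier := {x | ∃ v, x = v - eps • v}
      zero_mem' := ⟨0, by simp⟩
      add_mem' := by rintro _ _ ⟨a, rfl⟩ ⟨b, rfl⟩; exact ⟨a + b, by rw [smul_add]; abel⟩
      neg_mem' := by rintro _ ⟨a, rfl⟩; exact ⟨-a, by rw [smul_neg]; abel⟩ }
  have k : ∀ x ∈ LO, ∀ v : Λ, (∀ i ∈ O8, (x : Vec) i = 2 * (v : Vec) i) → x ∈ A := fun x hx v h => ⟨v, by
    ext i
    by_cases hi : i ∈ O8
    · simp [eps, sign_apply, hi, h i hi, two_mul]
    · simp [eps, sign_apply, hi, hx i hi]⟩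
  have k4 : ∀ i ∈ O8, i ≠ some 4 := fun i hi e => four_notMem_O8 (e ▸ hi)
  refine LO_le (A := A) (k _ x0_mem (odd1 (some 4) (-3) rfl) fun i hi => ?_)
    (k _ e8_mem (v44 none (some 4) 1 1) fun i hi => ?_) (fun i hi => ?_) hx
  · rw [x0, two_apply, odd1_apply, if_pos hi, if_neg (k4 i hi)]; rfl
  · rw [e8_apply, v44_apply, if_neg (k4 i hi)]; split_ifs <;> rfl
  by_cases e : i = none
  · exact k _ (v44_mem_LO hi none_mem_O8 _ _) 0 fun j _ => by rw [e, v44_apply]; split_ifs <;> rfl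
  obtain ⟨c, hc, e'⟩ := exists_code_inter (s := O8) (t := {i, none})
    (insert_subset hi (singleton_subset_iff.2 none_mem_O8)) fun d hd hd' => by
      rcases d.eq_empty_or_nonempty with rfl | h
      · simp
      · rw [eq_of_subset_of_card_le hd' (card_O8 ▸ hd.eight_le h),
          inter_eq_right.2 (insert_subset hi (singleton_subset_iff.2 none_mem_O8)), card_pair e]
        exact even_two
  refine k _ (v44_mem_LO hi none_mem_O8 _ _) (two c hc - v44 none (some 4) 1 1) fun j hj => ?_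
  have : j ∈ c ↔ j = i ∨ j = none := by simpa [hj] using Finset.ext_iff.1 e' j
  simp only [AddSubgroup.coe_sub, Pi.sub_apply, v44_apply, two_apply, this, if_neg (k4 j hj)]
  by_cases a : j = i <;> by_cases b : j = none <;> simp_all

/-- A basis modulo twice the lattice. -/
def bO (l : ℕ) : Λ :=
  if l = 0 then x0 else if l = 1 then e8 none else v44 (ptOf ([0, 0, 1, 2, 3, 5, 14, 17].getD l 0)) none 1 (-1)

theorem exists_comb {x : Λ} (hx : x ∈ LO) : ∃ m < 2 ^ 8, Cg x (comb bO 8 m) := by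
  let A : AddSubgroup Λ :=
    { carrier := {x | ∃ m < 2 ^ 8, Cg x (comb bO 8 m)}
      zero_mem' := ⟨0, by norm_num, by simpa [comb] using Cg.refl 0⟩
      add_mem' := by
        rintro a b ⟨m, hm, ha⟩ ⟨n, hn, hb⟩
        exact ⟨m ^^^ n, Nat.xor_lt_two_pow hm hn, (ha.add hb).trans (cg_comb_xor _ _ _ _).symm⟩
      neg_mem' := by rintro a ⟨m, hm, ha⟩; exact ⟨m, hm, (Cg.neg_self a).trans ha⟩ }
  have k : ∀ l < 8, bO l ∈ A := fun l hl => ⟨2 ^ l, Nat.pow_lt_pow_right (by norm_num) hl, (cg_comb_two_pow _ hl).symm⟩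
  have k1 : ∀ i ∈ O8.erase (some 0), v44 i none 1 (-1) ∈ A := fun i hi => by
    rcases (by decide +kernel : ∀ i ∈ O8.erase (some 0), i = none ∨ ∃ l < 8, l ≠ 0 ∧ l ≠ 1 ∧
      ptOf ([0, 0, 1, 2, 3, 5, 14, 17].getD l 0) = i) i hi with rfl | ⟨l, hl, a, b, rfl⟩
    · rw [show v44 none none 1 (-1) = 0 by ext k; rw [v44_apply]; split_ifs <;> simp]; exact zero_mem _
    · simpa only [bO, if_neg a, if_neg b] using k l hl
  refine LO_le (A := A) (k 0 (by norm_num)) (k 1 (by norm_num)) (fun i hi => ?_) hx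
  by_cases e : i = some 0
  swap
  · exact k1 i (mem_erase.2 ⟨e, hi⟩)
  refine (add_mem_cancel_right (sum_mem k1)).1 ?_
  rw [e, add_sum_erase O8 (fun i => v44 i none 1 (-1)) (e ▸ hi)]
  refine ⟨0, by norm_num, x0 - 2 • e8 none, ?_⟩
  ext j
  simp only [comb, Nat.zero_testBit, Bool.false_eq_true, if_false, sum_const_zero, sub_zero, AddSubgroup.val_finsetSum,
    Finset.sum_apply, v44_apply, sum_add_distrib, sum_ite_eq, sum_const, card_O8, two_nsmul, AddSubgroup.coe_add,
    AddSubgroup.coe_sub, Pi.add_apply, Pi.sub_apply, x0, two_apply, e8_apply]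
  split_ifs <;> simp

theorem cg_v44 {a b k l : GolayPt} {s t : ℤˣ} (hab : a ≠ b) (hkl : k ≠ l) (h : Cg (v44 a b s t) (v44 k l 1 1)) :
    (a = k ∨ a = l) ∧ s = t := by
  have h1 := h.eq_or_neg (by rw [nm_v44 hab]; norm_num) (by rw [nm_v44 hkl]; norm_num)
  have h2 : ∀ i, (v44 a b s t : Vec) i = (v44 k l 1 1 : Vec) i ∧ (v44 a b s t : Vec) b = (v44 k l 1 1 : Vec) b ∨
      (v44 a b s t : Vec) i = -(v44 k l 1 1 : Vec) i ∧ (v44 a b s t : Vec) b = -(v44 k l 1 1 : Vec) b := fun i =>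
    h1.imp (fun e => by rw [e]; exact ⟨rfl, rfl⟩) fun e => by rw [e]; exact ⟨rfl, rfl⟩
  have h3 := h2 a
  simp only [v44_apply, if_true, if_neg hab, if_neg hab.symm] at h3
  rcases Int.units_eq_one_or s with rfl | rfl <;> rcases Int.units_eq_one_or t with rfl | rfl <;>
    split_ifs at h3 <;> simp_all

theorem fix_pts {S d : Finset GolayPt} {hd : IsCode d} {σ : M24} (h3 : 3 ≤ S.card)
    (h : ∀ i ∈ S, ∀ j ∈ S, i ≠ j → Cg ((sign d hd * perm σ) • v44 i j 1 1) (v44 i j 1 1)) :
    (∀ i ∈ S, σ.1 i = i) ∧ ∀ i ∈ S, ∀ j ∈ S, (i ∈ d ↔ j ∈ d) := by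
  have k := fun i hi j hj hij => cg_v44 (σ.1.injective.ne hij) hij (by
    simpa only [mul_smul, perm_v44, sign_v44] using h i hi j hj hij)
  have k1 : ∀ i ∈ S, σ.1 i = i := fun i hi => by
    obtain ⟨j, hj, l, hl, a, b, c⟩ := exists_two_mem_notMem (s := S) (t := {i}) (by rw [card_singleton]; omega)
    rw [mem_singleton] at b c
    exact (k i hi j hj (Ne.symm b)).1.elim id fun e => (k i hi l hl (Ne.symm c)).1.resolve_right fun e' =>
      a (e.symm.trans e')
  refine ⟨k1, fun i hi j hj => ?_⟩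
  by_cases e : i = j
  · rw [e]
  have := (k i hi j hj e).2
  rw [k1 i hi, k1 j hj] at this
  split_ifs at this with a b b
  exacts [iff_of_true a b, absurd this (by decide), absurd this (by decide), iff_of_false a b]

theorem pr_cases {g : Co0} (h1 : Cg (g • e8 none) (e8 none))
    (h : ∀ i j, i ≠ j → (i ∈ O8 ↔ j ∈ O8) → Cg (g • v44 i j 1 1) (v44 i j 1 1)) : pr g = 1 ∨ pr g = pr eps := by
  obtain ⟨d, hd, σ, rfl⟩ := mem_Mon_of_cg h1
  obtain ⟨a1, a2⟩ := fix_pts (S := O8) (by rw [card_O8]; norm_num) fun i hi j hj e => h i j e (iff_of_true hi hj)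
  obtain ⟨b1, b2⟩ := fix_pts (S := O8ᶜ) (by rw [card_compl, card_O8, card_pt]; norm_num) fun i hi j hj e =>
    h i j e (iff_of_false (mem_compl.1 hi) (mem_compl.1 hj))
  have k : ∀ i, (i ∈ d ↔ if i ∈ O8 then none ∈ d else some 4 ∈ d) ∧ σ.1 i = i := fun i => by
    split_ifs with hi
    exacts [⟨a2 i hi _ none_mem_O8, a1 i hi⟩,
      ⟨b2 i (mem_compl.2 hi) _ (mem_compl.2 four_notMem_O8), b1 i (mem_compl.2 hi)⟩]
  rw [show σ = 1 from Subtype.ext (Equiv.ext fun i => (k i).2), map_one, mul_one, pr_eq_one_iff, pr_eq_iff, eps,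
    ← sign_compl, ← sign_empty, negOne]
  by_cases c1 : none ∈ d <;> by_cases c2 : some 4 ∈ d
  · exact Or.inl (Or.inr (sign_congr _ (Finset.ext fun i => by simpa [c1, c2] using (k i).1)))
  · exact Or.inr (Or.inl (sign_congr _ (Finset.ext fun i => by simpa [c1, c2] using (k i).1)))
  · exact Or.inr (Or.inr (sign_congr _ (Finset.ext fun i => by simpa [c1, c2] using (k i).1)))
  · exact Or.inl (Or.inl (sign_congr _ (Finset.ext fun i => by simpa [c1, c2] using (k i).1)))

theorem pr_eps_ne : pr eps ≠ 1 := fun h => by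
  rcases pr_eq_one_iff.1 h with e | e
  · exact notMem_empty none (sign_inj (e.trans sign_empty.symm) ▸ none_mem_O8)
  · exact four_notMem_O8 (sign_inj e ▸ mem_univ _)

theorem cg_x0 {g : Co0} (h1 : Cg (g • e8 none) (e8 none))
    (h : ∀ i ∈ O8, ∀ j ∈ O8, i ≠ j → Cg (g • v44 i j 1 1) (v44 i j 1 1)) : Cg (g • x0) x0 := by
  obtain ⟨d, hd, σ, rfl⟩ := mem_Mon_of_cg h1
  obtain ⟨a1, a2⟩ := fix_pts (S := O8) (by rw [card_O8]; norm_num) h
  have k : ∀ i, σ.1.symm i ∈ O8 ↔ i ∈ O8 := fun i => ⟨fun e => by rwa [← a1 _ e, Equiv.apply_symm_apply] at e,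
    fun e => by rwa [← a1 _ e, Equiv.symm_apply_apply]⟩
  refine Cg.of_eq_or_neg ((em' (none ∈ d)).imp (fun c => ?_) fun c => ?_) <;> ext i <;>
    by_cases hi : i ∈ O8 <;> simp [mul_smul, sign_apply, perm_apply, x0, two_apply, k, hi]
  exacts [mt (a2 i hi _ none_mem_O8).1 c, (a2 i hi _ none_mem_O8).2 c]

theorem card_le_fix {K : Subgroup Cfsg.Spor.Co1} (h : ∀ y ∈ K, ∃ g, pr g = y ∧ ∀ x ∈ LO, Cg (g • x) x) :
    Nat.card K ≤ 2 ^ 9 := by
  let A : Set ℕ := id '' {x | x < 4096 ∧ Nat.beq (Nat.land (MB.enc x) 8536111) 0 = true}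
  have hA : A.ncard = 32 := (ncard_image_label (Set.injOn_id _) _).trans (by decide +kernel)
  have := (Set.finite_of_ncard_ne_zero (s := A) (by omega)).to_subtype
  let F : A × Golay.Fix O8 → Cfsg.Spor.Co1 := fun y =>
    pr (sign _ (MB.unmask_enc_mem y.1) * perm ⟨y.2, (Golay.mem_Fix.1 y.2.2).1⟩)
  have key : ∀ d (hd : IsCode d) (σ : M24), (∀ i ∈ O8, σ.1 i = i) → Disjoint d O8 →
      pr (sign d hd * perm σ) ∈ Set.range F := fun d hd σ a1 a2 => by
    obtain ⟨x, hx, e⟩ := MB.exists_enc (MB.mem_CW_iff.1 hd)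
    refine ⟨⟨⟨x, x, ⟨hx, ?_⟩, rfl⟩, σ, Golay.mem_Fix.2 ⟨σ.2, a1⟩⟩, by simp only [F, e, MB.unmask_mask]⟩
    rw [e, ← (by decide +kernel : MB.mask O8 = 8536111), MB.disjoint_iff_mask.1 a2]; rfl
  have h1 : (K : Set Cfsg.Spor.Co1) ⊆ Set.range F := fun y hy => by
    obtain ⟨g, rfl, hg⟩ := h y hy
    obtain ⟨d, hd, σ, rfl⟩ := mem_Mon_of_cg (hg _ e8_mem)
    obtain ⟨a1, a2⟩ := fix_pts (S := O8) (by rw [card_O8]; norm_num) fun i hi j hj _ => hg _ (v44_mem_LO hi hj _ _)
    by_cases c : none ∈ d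
    · have := key _ hd.compl σ a1 (disjoint_left.2 fun i a b => mem_compl.1 a ((a2 i b _ none_mem_O8).2 c))
      rwa [sign_compl, mul_assoc, pr_eq_iff.2 (Or.inr rfl)] at this
    · exact key d hd σ a1 (disjoint_left.2 fun i a b => c ((a2 i b _ none_mem_O8).1 a))
  calc _ ≤ (Set.range F).ncard := by
        rw [← SetLike.coe_sort_coe, Nat.card_coe_set_eq]
        exact Set.ncard_le_ncard h1 (Set.finite_range F)
    _ ≤ Nat.card (A × Golay.Fix O8) := by
        rw [← Set.image_univ, ← Set.ncard_univ]; exact Set.ncard_image_le Set.finite_univ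
    _ ≤ _ := by rw [Nat.card_prod, Nat.card_coe_set_eq, hA, Golay.card_Fix_octad O8_octad]; norm_num

theorem no_refl {g : Co0} (h1 : Cg (g • e8 none) (e8 none))
    (h2 : ∀ k ∈ O8 \ {none, some 0}, ∀ l ∈ O8 \ {none, some 0}, k ≠ l → Cg (g • v44 k l 1 1) (v44 k l 1 1))
    (h3 : Cg (g • v44 none (some 1) 1 1) (v44 (some 0) (some 1) 1 1)) : False := by
  obtain ⟨d, hd, σ, rfl⟩ := mem_Mon_of_cg h1
  have c : (O8 \ {none, some 0}).card = 6 := by decide +kernel
  have a := Golay.mem_Fix_octad_of_six O8_octad sdiff_subset c ▸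
    Golay.mem_Fix.2 ⟨σ.2, (fix_pts (by omega) h2).1⟩
  rw [mul_smul, perm_v44, sign_v44] at h3
  have := (cg_v44 (σ.1.injective.ne (by simp)) (by decide) h3).1
  rw [(Golay.mem_Fix.1 a).2 _ none_mem_O8] at this
  simp at this

/-- Eight times the matrix of an automorphism commuting with the sign change. -/
def kM (i j : ℕ) : ℤ := (([426103329216585995404730414720555214, 426103329216585995404730414720555462,
  426103329216585995404730414720563398, 426103329216576550671764675430127814, 345544051947750680558870614606356744,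
  426103329216585995404730414988990662, 345701404025579431549888816713310472, 345706469676069076358971816948277512,
  345544210399391126152724471093666056, 340508943758808450246281719871447304, 340514019313120640496073001186631944,
  340346842943139825579279224183988488, 340351918497452006902654569074139400, 340346684482130204892419190855835912,
  426103329216585995404730414720817350, 345706311224730862220013096547918088, 340351760036140163975246919959322888,
  426103329526071005226075483445336262, 345539144748599250177258460786467080, 340514177774130251968567922045231368,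
  345701245573938995188414471221813512, 340509102220120302388053931716780296, 345538986297261045270678701609328904,
  93796330270357027178778649650469062].getD i 0 / 32 ^ j % 32 : ℕ) : ℤ) - 8

theorem exists_k : ∃ k : Co0, k * eps = eps * k ∧ k • e8 none = x0 - e8 none := by
  have h : matTest kM = true := by decide +kernel
  have h1 : ∀ i < 24, (∀ j < 24, kM i j = 0 ∨ (8536111).testBit i = (8536111).testBit j) ∧
      kM i 23 = (if (8536111).testBit i then 2 else 0) - if i = 23 then 8 else 0 := by decide +kernel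
  refine ⟨ofMatN kM h, co0_ext_e8 fun j => ?_, ?_⟩
  · ext i
    rw [mul_smul, mul_smul, eps, sign_e8, sign_apply]
    rcases (h1 _ (ptIdx_lt i)).1 _ (ptIdx_lt j) with e | e
    · split_ifs <;> simp [smul_neg, ofMatN_e8, e]
    · simp only [O8, mem_maskSet, e]
      split_ifs <;> simp [smul_neg]
  · ext i
    simp only [ofMatN_e8, AddSubgroup.coe_sub, Pi.sub_apply, x0, two_apply, e8_apply, O8, mem_maskSet,
      ← ptIdx_eq_23 (x := i)]
    exact (h1 _ (ptIdx_lt i)).2

end Cfsg.Agent.Gr.L2
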