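import Mathlib
import Cfsg.Agent.Cl.OrthIso
import Cfsg.Agent.Cl.OrthSimple
import Cfsg.Agent.GT.ElemAbRep
import Cfsg.Agent.Spor.ESSym

/-! The orthogonal geometry on an elementary abelian group of order `2^10` given by fusion to a large involution. -/

set_option autoImplicit false

namespace Cfsg.Agent.Gr.L2

open Subgroup QuadraticMap Module Cfsg.Agent.Spor Cfsg.Agent.GT Cfsg.Agent.Cl

variable {G : Type*} [Group G]

open Classical in
/-- The indicator of the nonidentity elements not conjugate to `z`. -/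
noncomputable def qq (z e : G) : ZMod 2 := if e = 1 ∨ IsConj z e then 0 else 1

theorem qq_zero {z e : G} : qq z e = 0 ↔ e = 1 ∨ IsConj z e := by
  unfold qq; split_ifs with h
  exacts [iff_of_true rfl h, iff_of_false one_ne_zero h]

theorem qq_one {z e : G} (h1 : e ≠ 1) (h2 : ¬ IsConj z e) : qq z e = 1 := if_neg (not_or.2 ⟨h1, h2⟩)

theorem qq_conj (z g e : G) : qq z (g * e * g⁻¹) = qq z e := by
  have : IsConj e (g * e * g⁻¹) := isConj_iff.2 ⟨g, rfl⟩
  unfold qq
  rw [conj_eq_one_iff, show IsConj z (g * e * g⁻¹) ↔ IsConj z e from ⟨fun h => h.trans this.symm, fun h => h.trans this⟩]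

theorem qq_unit (z : G) : qq z 1 = 0 := qq_zero.2 (Or.inl rfl)

theorem qq_self (z : G) : qq z z = 0 := qq_zero.2 (Or.inr (IsConj.refl z))

/-- The hypotheses on the elementary abelian group. -/
structure TenD (Q E : Subgroup G) (z n : G) : Prop where
  es : ES2 Q z
  ea : IsElementaryAbelian 2 E
  QN : Q ≤ normalizer (E : Set G)
  zE : z ∈ E
  nN : n ∈ normalizer (E : Set G)
  two : ∀ e ∈ E, ∀ e' ∈ E, e ∉ Q → e' ∉ Q → e * e' ∈ Q
  orb : ∀ e ∈ E, e ∉ Q → ∃ b ∈ Q, Eqv z e (b * (n * z * n⁻¹) * b⁻¹)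
  tQ : n * z * n⁻¹ ∉ Q
  zQ : n⁻¹ * z * n ∉ Q
  zt : ¬ IsConj z (z * (n * z * n⁻¹))

namespace TenD

variable {Q E : Subgroup G} {z n : G}

theorem cj {g e : G} (hg : g ∈ normalizer (E : Set G)) (he : e ∈ E) : g * e * g⁻¹ ∈ E :=
  (mem_normalizer_iff.1 hg e).1 he

theorem tE (h : TenD Q E z n) : n * z * n⁻¹ ∈ E := cj h.nN h.zE

theorem gen (h : TenD Q E z n) {H : Subgroup G} (hz : z ∈ H)
    (hH : ∀ g ∈ normalizer (E : Set G), ∀ x ∈ H, g * x * g⁻¹ ∈ H) : E ≤ H := by
  have k : ∀ e ∈ E, e ∉ Q → e ∈ H := fun e he hq => by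
    obtain ⟨b, hb, e1⟩ := h.orb e he hq
    have := hH b (h.QN hb) _ (hH n h.nN z hz)
    rcases e1 with rfl | rfl
    exacts [this, mul_mem hz this]
  intro e he
  by_cases hq : e ∈ Q
  · exact (mul_mem_cancel_right (k _ h.tE h.tQ)).1
      (k _ (mul_mem he h.tE) fun c => h.tQ ((mul_mem_cancel_left hq).1 c))
  · exact k e he hq

open Classical in
theorem qq_mul (h : TenD Q E z n) {e : G} (he : e ∈ E) : qq z (z * e) = qq z e + if e ∈ Q then 0 else 1 := by
  split_ifs with hq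
  · rw [add_zero]
    by_cases h1 : e = 1
    · rw [h1, mul_one, qq_self, qq_unit]
    by_cases h2 : e = z
    · rw [h2, h.es.z_sq, qq_self, qq_unit]
    obtain ⟨q, hq', c⟩ := h.es.exists_not_comm hq h1 h2
    rw [← h.es.aes.conj_of_ne hq' hq (Ne.symm c), qq_conj]
  · obtain ⟨b, hb, e1⟩ := h.orb e he hq
    have k0 : qq z (b * (n * z * n⁻¹) * b⁻¹) = 0 := by rw [qq_conj, qq_conj, qq_self]
    have k1 : qq z (z * (b * (n * z * n⁻¹) * b⁻¹)) = 1 := by
      rw [show z * (b * (n * z * n⁻¹) * b⁻¹) = b * (z * (n * z * n⁻¹)) * b⁻¹ by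
        rw [← mul_assoc, ← mul_assoc, h.es.z_comm b hb]; group, qq_conj]
      exact qq_one (fun c => h.tQ (by rw [eq_inv_of_mul_eq_one_right c]; exact inv_mem h.es.z_mem)) h.zt
    rcases e1 with rfl | rfl
    · rw [k0, k1, zero_add]
    · rw [h.es.z_mul_z_mul, k0, k1]; rfl

theorem add_aux (h : TenD Q E z n) {x : G} (hx : x ∈ E) : ∀ y ∈ E, ∀ y' ∈ E,
    qq z (x * (y * y')) + qq z (y * y') + qq z x = qq z (x * y) + qq z y + qq z (x * y') + qq z y' := by
  let H : Subgroup G :=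
    { carrier := {x | x ∈ E ∧ ∀ y ∈ E, ∀ y' ∈ E,
        qq z (x * (y * y')) + qq z (y * y') + qq z x = qq z (x * y) + qq z y + qq z (x * y') + qq z y'}
      one_mem' := ⟨one_mem _, fun y _ y' _ => by
        simp only [one_mul, qq_unit]; generalize qq z (y * y') = a, qq z y = b, qq z y' = c; revert a b c; decide⟩
      mul_mem' := by
        rintro a b ⟨ha, ha'⟩ ⟨hb, hb'⟩
        refine ⟨mul_mem ha hb, fun y hy y' hy' => ?_⟩
        have e1 := ha' b hb _ (mul_mem hy hy')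
        have e2 := ha' b hb y hy
        have e3 := ha' b hb y' hy'
        have e4 := ha' y hy y' hy'
        have e5 := hb' y hy y' hy'
        simp only [mul_assoc]
        linear_combination (exp := 1) e1 - e2 - e3 + e4 - e5 +
          (qq z (y * y') - qq z y - qq z y') * (by rfl : (2 : ZMod 2) = 0)
      inv_mem' := by
        rintro a ⟨ha, ha'⟩
        rw [inv_eq_of_mul_eq_one_right (show a * a = 1 by rw [← pow_two]; exact h.ea.2 a ha)]
        exact ⟨ha, ha'⟩ }
  refine (h.gen (H := H) ⟨h.zE, fun y hy y' hy' => ?_⟩ (fun g hg a ⟨ha, ha'⟩ => ⟨cj hg ha, fun y hy y' hy' => ?_⟩) hx).2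
  · rw [h.qq_mul hy, h.qq_mul hy', h.qq_mul (mul_mem hy hy'), qq_self]
    generalize qq z (y * y') = a, qq z y = b, qq z y' = c
    by_cases c1 : y ∈ Q <;> by_cases c2 : y' ∈ Q
    · simp only [c1, c2, mul_mem c1 c2, if_true]; revert a b c; decide
    · simp only [c1, c2, mul_mem_cancel_left c1, if_true, if_false]; revert a b c; decide
    · simp only [c1, c2, mul_mem_cancel_right c2, if_true, if_false]; revert a b c; decide
    · simp only [c1, c2, h.two y hy y' hy' c1 c2, if_true, if_false]; revert a b c; decide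
  · have := ha' _ (cj (inv_mem hg) hy) _ (cj (inv_mem hg) hy')
    have k : ∀ w, qq z (g * a * g⁻¹ * w) = qq z (a * (g⁻¹ * w * g⁻¹⁻¹)) := fun w => by
      rw [← qq_conj z g (a * _)]; congr 1; group
    rwa [show g⁻¹ * y * g⁻¹⁻¹ * (g⁻¹ * y' * g⁻¹⁻¹) = g⁻¹ * (y * y') * g⁻¹⁻¹ by group, ← k, ← k, ← k, qq_conj, qq_conj,
      qq_conj, ← qq_conj z g a] at this

/-- The quadratic form. -/
noncomputable def qf (h : TenD Q E z n) : QuadraticForm (ZMod 2) (EAV h.ea) :=
  QuadraticMap.ofPolar (fun x => qq z x.val)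
    (fun a x => by
      rcases (by decide : ∀ a : ZMod 2, a = 0 ∨ a = 1) a with rfl | rfl
      · simp [EAV.val_zero, qq_unit]
      · simp)
    (fun x x' y => by
      have := h.add_aux y.val_mem _ x.val_mem _ x'.val_mem
      simp only [polar, add_comm _ y, EAV.val_add]
      linear_combination (exp := 1) this + (qq z y.val - qq z (x.val * x'.val) + qq z x.val + qq z x'.val - qq z y.val) *
        (by rfl : (2 : ZMod 2) = 0))
    (fun a x y => by
      rcases (by decide : ∀ a : ZMod 2, a = 0 ∨ a = 1) a with rfl | rfl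
      · simp [polar, EAV.val_zero, qq_unit]
      · simp)

theorem qf_apply (h : TenD Q E z n) (x : EAV h.ea) : h.qf x = qq z x.val := rfl

open Classical in
theorem polar_conj (h : TenD Q E z n) {g : G} (hg : g ∈ normalizer (E : Set G)) (x : EAV h.ea) :
    polar h.qf (EAV.mk h.ea _ (cj hg h.zE)) x = if g⁻¹ * x.val * g ∈ Q then 0 else 1 := by
  have := h.qq_mul (cj (inv_mem hg) x.val_mem)
  rw [qq_conj, ← qq_conj z g, show g * (z * (g⁻¹ * x.val * g⁻¹⁻¹)) * g⁻¹ = g * z * g⁻¹ * x.val by group, inv_inv] at this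
  simp only [polar, qf_apply, EAV.val_add, EAV.val_mk, this, qq_conj, qq_self]
  ring

open Classical in
theorem polar_z (h : TenD Q E z n) (x : EAV h.ea) :
    polar h.qf (EAV.mk h.ea z h.zE) x = if x.val ∈ Q then 0 else 1 := by
  simpa using h.polar_conj (one_mem _) x

theorem nondeg (h : TenD Q E z n) : (polarBilin h.qf).Nondegenerate := by
  refine o_nondeg_of fun x hx => EAV.val_eq_one_iff.1 ?_
  have k : ∀ g ∈ normalizer (E : Set G), g⁻¹ * x.val * g ∈ Q := fun g hg => by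
    by_contra c
    have := h.polar_conj hg x
    rw [polar_comm, hx, if_neg c] at this
    exact zero_ne_one this
  have k1 : x.val ∈ Q := by simpa using k 1 (one_mem _)
  by_contra h1
  by_cases h2 : x.val = z
  · exact h.zQ (h2 ▸ k n h.nN)
  obtain ⟨q, hq, c⟩ := h.es.exists_not_comm k1 h1 h2
  have := mul_mem (k (q⁻¹ * n) (mul_mem (inv_mem (h.QN hq)) h.nN)) (inv_mem (k n h.nN))
  rw [show (q⁻¹ * n)⁻¹ * x.val * (q⁻¹ * n) = n⁻¹ * (q * x.val * q⁻¹) * n by group,
    h.es.aes.conj_of_ne hq k1 (Ne.symm c)] at this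
  exact h.zQ (by convert this using 1; group)

theorem omega [Finite G] (h : TenD Q E z n) (h1 : Nat.card E ≤ 2 ^ 10) {U : Subgroup G} (hU : U ≤ E)
    (h2 : Nat.card U = 2 ^ 5) (h3 : ∀ u ∈ U, u ≠ 1 → IsConj z u) {v : G} (hv : v ∈ E) (h4 : qq z v = 1)
    (h5 : ∀ g ∈ normalizer (E : Set G), (∀ y ∈ E, qq z (y * v) = qq z y + 1 → g * y * g⁻¹ = y) →
      (∀ y ∈ E, qq z (y * v) = qq z y → g * y * g⁻¹ = y * v) → False) :
    Nat.card E = 2 ^ 10 ∧ ∃ Φ : normalizer (E : Set G) →* Omega (ZMod 2) (quadFormPlus 5 (ZMod 2)),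
      Function.Surjective Φ ∧ ∀ x, Φ x = 1 ↔ (x : G) ∈ centralizer (E : Set G) := by
  have hQ := h.nondeg
  have c1 : Nat.card E = 2 ^ finrank (ZMod 2) (EAV h.ea) := by
    rw [← EAV.card_eq (hV := h.ea), Module.natCard_eq_pow_finrank (K := ZMod 2), Nat.card_zmod]
  have c2 : finrank (ZMod 2) (EAV.sub h.ea U) = 5 := Nat.pow_right_injective le_rfl (by
    have := Module.natCard_eq_pow_finrank (K := ZMod 2) (V := EAV.sub h.ea U)
    rw [EAV.card_sub hU, h2, Nat.card_zmod] at this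
    exact this.symm)
  have c3 : ∀ u ∈ EAV.sub h.ea U, h.qf u = 0 := fun u hu => qq_zero.2 (or_iff_not_imp_left.2 (h3 _ hu))
  have c4 : finrank (ZMod 2) (EAV h.ea) = 2 * 5 := by
    have := o_two_mul_finrank_le hQ c3
    rw [c1, Nat.pow_le_pow_iff_right (by norm_num)] at h1
    omega
  refine ⟨by rw [c1, c4], ?_⟩
  obtain ⟨φ, hφ⟩ := o_exists_hom_OG (Q := h.qf) LinearMap.id Function.injective_id (eaRep h.ea le_rfl)
    (fun g v => ⟨_, rfl⟩) fun g v v' e => by
      rw [LinearMap.id_apply, LinearMap.id_apply] at e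
      rw [e, qf_apply, val_eaRep, qq_conj, qf_apply]
  replace hφ : ∀ g x, ((φ g).1 x).val = g * x.val * (g : G)⁻¹ := fun g x => (congrArg EAV.val (hφ g x) :)
  let Z := EAV.mk h.ea z h.zE
  let T := EAV.mk h.ea _ h.tE
  have hZ : h.qf Z = 0 := qq_self z
  have hT : h.qf T = 0 := (qq_conj _ _ _).trans (qq_self z)
  have hZT : polar h.qf Z T = 1 := (h.polar_z T).trans (if_neg h.tQ)
  have e1 : ∀ w, eich h.qf Z w ∈ φ.range := fun w => by
    by_cases hw : polar h.qf Z w = 0
    swap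
    · rw [eich, dif_neg fun c => hw c.2]; exact one_mem _
    have k1 : polar h.qf Z ((eich h.qf Z w).1 T) = 1 := by
      simpa only [eich_app_self, hZT] using OG.polar_app (eich h.qf Z w) Z T
    have k2 : ((eich h.qf Z w).1 T).val ∉ Q := fun c => by
      rw [h.polar_z, if_pos c] at k1; exact zero_ne_one k1
    obtain ⟨b, hb, k3⟩ := h.orb _ (EAV.val_mem _) k2
    have k4 : (φ ⟨b, h.QN hb⟩).1 Z = Z := EAV.ext (by
      rw [hφ]; exact mul_inv_eq_iff_eq_mul.2 (h.es.z_comm b hb).symm)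
    have k5 : (φ ⟨b, h.QN hb⟩).1 T = (eich h.qf Z w).1 T := by
      rcases k3 with k3 | k3
      · exact EAV.ext ((hφ _ _).trans k3.symm)
      · have : (eich h.qf Z w).1 T = (φ ⟨b, h.QN hb⟩).1 (Z + T) :=
          EAV.ext (by rw [map_add, k4, EAV.val_add, hφ]; exact k3)
        have := congrArg h.qf this
        rw [OG.map_app, OG.map_app, o_qadd, hZ, hT, hZT] at this
        exact absurd this (by decide)
    refine ⟨⟨b, h.QN hb⟩, OG.ext_hyp hZ hT hZT (by rw [k4, eich_app_self]) k5 fun y a1 a2 => ?_⟩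
    have a3 : y.val ∈ Q := by
      by_contra c
      rw [h.polar_z, if_neg c] at a1; exact one_ne_zero a1
    obtain ⟨c, hc⟩ : ∃ c : ZMod 2, (φ ⟨b, h.QN hb⟩).1 y = y + c • Z := by
      rcases h.es.aes.conj_eq hb a3 with k | k
      · exact ⟨0, EAV.ext (by rw [hφ, zero_smul, add_zero]; exact k)⟩
      · exact ⟨1, EAV.ext (by rw [hφ, one_smul, add_comm]; exact k)⟩
    have a4 := eich_app_of_polar_left (x := y) hZ hw (by rwa [polar_comm])
    have a5 := OG.polar_app (φ ⟨b, h.QN hb⟩) y T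
    have a6 := OG.polar_app (eich h.qf Z w) y T
    rw [hc, k5, polar_add_left, o_polar_smul_left, k1] at a5
    rw [a4, polar_sub_left, o_polar_smul_left, k1] at a6
    rw [hc, a4, show c = -polar h.qf y w by linear_combination a5 - a6, neg_smul, sub_eq_add_neg]
  have e2 : φ.range = commutator (OG h.qf) := by
    have hx := not_oExc_of_finrank (Q := h.qf) (by omega)
    have k1 : commutator (OG h.qf) ≤ φ.range := by
      rw [commutator_eq_EO_of_finite hQ hx (by omega)]
      refine EO_le_of_pair hQ hZ hT hZT e1 fun w => ?_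
      have k : (φ ⟨n, h.nN⟩).1 Z = T := EAV.ext (hφ _ _)
      rw [← k, ← OG.app_inv_app (φ ⟨n, h.nN⟩) w, ← conj_eich]
      exact mul_mem (mul_mem ⟨_, rfl⟩ (e1 _)) (inv_mem ⟨_, rfl⟩)
    refine le_antisymm (fun g hg => by_contra fun c => ?_) k1
    have hv' : h.qf (EAV.mk h.ea v hv) ≠ 0 := by rw [qf_apply, EAV.val_mk, h4]; exact one_ne_zero
    obtain ⟨a, ha⟩ : orefl h.qf (EAV.mk h.ea v hv) ∈ φ.range := by
      refine (mul_mem_cancel_right hg).1 (k1 ?_)
      rw [commutator_OG_eq_ker_dickson hQ hx rfl, MonoidHom.mem_ker] at c ⊢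
      rw [map_mul, dickson_orefl hQ hv', Int.units_eq_one_or _ |>.resolve_left c]; simp
    have k : ∀ y (hy : y ∈ E), (a : G) * y * (a : G)⁻¹ =
        (EAV.mk h.ea y hy - (qq z (y * v) - qq z y - 1) • EAV.mk h.ea v hv).val := fun y hy => by
      have := hφ a (EAV.mk h.ea y hy)
      rw [ha, orefl_app] at this
      simpa only [polar, qf_apply, EAV.val_add, EAV.val_mk, h4, inv_one, one_mul] using this.symm
    refine h5 a a.2 (fun y hy e => ?_) fun y hy e => ?_
    · rw [k y hy, e, add_sub_cancel_left, sub_self, zero_smul, sub_zero, EAV.val_mk]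
    · rw [k y hy, e, sub_self, zero_sub, neg_smul, one_smul, sub_neg_eq_add, EAV.val_add, EAV.val_mk, EAV.val_mk]
  obtain ⟨e, he⟩ := quad_equiv_plus_of_singular hQ c4 c3 c2
  let ε := OG.congr (Q' := quad_plus 5 (ZMod 2)) e he
  have e3 : (ε.toMonoidHom.comp φ).range = commutator (OG (quad_plus 5 (ZMod 2))) := by
    rw [MonoidHom.range_comp, e2, map_commutator_eq, MonoidHom.range_eq_top.2 ε.surjective]; rfl
  let ψ : normalizer (E : Set G) →* commutator (OG (quad_plus 5 (ZMod 2))) :=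
    (ε.toMonoidHom.comp φ).codRestrict _ fun x => e3.le ⟨x, rfl⟩
  refine ⟨(omegaEquivOG (quad_plus 5 (ZMod 2))).symm.toMonoidHom.comp ψ,
    (omegaEquivOG _).symm.surjective.comp fun a => (e3.ge a.2).imp fun x => Subtype.ext, fun x => ?_⟩
  have : ψ x = 1 ↔ φ x = 1 := Subtype.ext_iff.trans ε.map_eq_one_iff
  refine Iff.trans (MulEquiv.map_eq_one_iff (omegaEquivOG (quad_plus 5 (ZMod 2))).symm (x := ψ x)) ?_
  refine this.trans ⟨fun k y hy => ?_, fun k => OG.ext fun y => EAV.ext ?_⟩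
  · have := hφ x (EAV.mk h.ea y hy)
    rw [k] at this
    exact (mul_inv_eq_iff_eq_mul.1 this.symm).symm
  · rw [hφ, ← k _ y.val_mem, mul_inv_cancel_right]; rfl

end TenD

end Cfsg.Agent.Gr.L2
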