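import Mathlib
import Cfsg.Agent.Gr.L2.Five
import Cfsg.Agent.Gr.L2.TenL
import Cfsg.Agent.Gr.L2.TenQ

/-! The elementary abelian group of order `2^10` in a group of Monster type. -/

set_option autoImplicit false

namespace Cfsg.Agent.Gr.L2

open Subgroup Cfsg.Agent.Spor Cfsg.Agent.Spor.MT Cfsg.Agent.Spor.Leech

variable {G : Type*} [Group G] {Q R : Subgroup G} {z s a : G}
  {π : centralizer ({z} : Set G) →* Cfsg.Spor.Co1} {r : Λ → G}

/-- The preimage of the classes supported on the octad. -/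
def E0 (h : MData Q z π r) : Subgroup G where
  carrier := {x | ∃ v ∈ LO, Eqv z x (r v)}
  one_mem' := ⟨0, zero_mem _, ((h.r_one _).2 (Cg.refl 0)).symm h.zz⟩
  mul_mem' := by
    rintro a b ⟨v, hv, ha⟩ ⟨w, hw, hb⟩
    exact ⟨v + w, add_mem hv hw,
      (ha.mul h.zz hb (h.es.z_comm _ (h.mem_of_eqv ha))).trans h.zz ((h.r_add _ _).symm h.zz)⟩
  inv_mem' := by
    rintro a ⟨v, hv, ha⟩
    exact ⟨v, hv, (h.es.aes.eqv_inv (h.mem_of_eqv ha)).trans h.zz ha⟩

/-- Its centraliser in `Q`. -/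
abbrev PP (h : MData Q z π r) : Subgroup G := Q ⊓ centralizer (E0 h : Set G)

/-- The elementary abelian group of order `2^10`. -/
abbrev EE (h : MData Q z π r) : Subgroup G := centralizer (PP h : Set G)

theorem E0_le (h : MData Q z π r) : E0 h ≤ Q := fun _ ⟨_, _, ha⟩ => h.mem_of_eqv ha

theorem z_mem_E0 (h : MData Q z π r) : z ∈ E0 h :=
  ⟨0, zero_mem _, Eqv.trans h.zz (Or.inr (mul_one z).symm) (((h.r_one _).2 (Cg.refl 0)).symm h.zz)⟩

theorem mem_PP (h : MData Q z π r) {y : G} {v : Λ} (hy : Eqv z y (r v)) :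
    y ∈ PP h ↔ ∀ x ∈ LO, (16 : ℤ) ∣ ip x v :=
  ⟨fun k x hx => (h.comm_iff' (Eqv.rfl' _ _) hy).1 (k.2 _ ⟨x, hx, Eqv.rfl' _ _⟩),
    fun k => ⟨h.mem_of_eqv hy, fun _ ⟨x, hx, e⟩ => (h.comm_iff' e hy).2 (k x hx)⟩⟩

theorem E0_le_PP (h : MData Q z π r) : E0 h ≤ PP h := fun _ ⟨_, hv, e⟩ => (mem_PP h e).2 fun _ hx => dvd_ip_LO hx hv

theorem E0_le_EE (h : MData Q z π r) : E0 h ≤ EE h := fun e he _ hp => (hp.2 e he).symm

theorem E0_sq (h : MData Q z π r) {e : G} (he : e ∈ E0 h) : e * e = 1 := by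
  obtain ⟨v, hv, e⟩ := he
  rw [sq_eq_of_eqv h.es.aes (h.r_mem v) e, h.sq_iff]
  exact dvd_nm_LO hv

theorem EE_le (h : MData Q z π r) : EE h ≤ centralizer {z} := fun _ hx =>
  mem_centralizer_singleton.2 (hx z (E0_le_PP h (z_mem_E0 h)))

theorem x0_mem_E0 (h : MData Q z π r) : r x0 ∈ E0 h := ⟨_, x0_mem, Eqv.rfl' _ _⟩

theorem s_mem_E0 (h : MData Q z π r) (hv : Eqv z s (r (e8 none))) : s ∈ E0 h := ⟨_, e8_mem, hv⟩

variable [Finite G]

theorem mem_E0 (h : MData Q z π r) {y : G} (hq : y ∈ Q) (hy : y ∈ EE h) : y ∈ E0 h :=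
  h.es.mem_of_comm_centralizer (E0_le h) (z_mem_E0 h) hq fun x hx k => hy x ⟨hx, fun a ha => (k a ha).symm⟩

theorem mem_N (h : MData Q z π r) {x : centralizer ({z} : Set G)} {g : Co0} (hg : pr g = π x)
    (he : g * eps = eps * g) : (x : G) ∈ normalizer (EE h : Set G) := by
  have hz := MData.z_comm_coe x
  have k1 : (x : G) ∈ normalizer (E0 h : Set G) := mem_normalizer_fintype fun y ⟨v, hv, e⟩ =>
    ⟨g • v, smul_mem_LO he hv, (e.conj hz).trans h.zz ((h.r_smul x g hg v).symm h.zz)⟩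
  have k2 : (x : G) ∈ normalizer (PP h : Set G) := mem_normalizer_fintype fun y hy =>
    mem_inf.2 ⟨h.lg.norm x hz y hy.1, ESPair.conj_mem_C k1 hy.2⟩
  exact mem_normalizer_fintype fun y hy => ESPair.conj_mem_C k2 hy

theorem Q_le_N (h : MData Q z π r) : Q ≤ normalizer (EE h : Set G) := fun x hx =>
  mem_N h (x := ⟨x, BM.Q_le h hx⟩) (g := 1) ((map_one _).trans ((h.ker _).2 hx).symm) (by rw [one_mul, mul_one])

theorem qq_two (h : MData Q z π r) {e : G} {v : Λ} (he : Eqv z e (r v)) (hv : nm v = 32) : qq z e = 1 := by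
  obtain ⟨h1, h2⟩ := h.ne_of_eqv he (by omega) (by omega)
  refine qq_one h1 fun c => ?_
  obtain ⟨g, rfl⟩ := isConj_iff.1 c
  exact h.not_type_two (h.pair (h.mem_of_eqv he) h2) he hv

theorem r_mem_R (h : MData Q z π r) (hp : ESPair Q R z s) (hv : Eqv z s (r (e8 none))) {x : Λ}
    (hx : ∀ i, (x : Vec) i % 4 = 0) : r x ∈ R := by
  let A : AddSubgroup Λ :=
    { carrier := {x | r x ∈ R}
      zero_mem' := mem_of_eqv' hp.z_mem ((h.r_one _).2 (Cg.refl 0)) (one_mem _)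
      add_mem' := fun ha hb => mem_of_eqv' hp.z_mem (h.r_add _ _) (mul_mem ha hb)
      neg_mem' := fun ha => mem_of_eqv' hp.z_mem (h.eqv_iff.2 (Cg.neg_self _)) ha }
  have k : e8 none ∈ A := mem_of_eqv' hp.z_mem (hv.symm h.zz) hp.esR.z_mem
  refine mem_of_four_dvd_gen (A := A) (fun i hi => ?_) k hx
  rw [eq_sub_of_add_eq (sub_eq_iff_eq_add'.1 (v44_sub_v44 i none)).symm]
  exact sub_mem (h.v44_mem hp hv hi (Eqv.rfl' _ _)) k

/-- Triality: conjugating an element of `Q` by an element of `R` moving `z`. -/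
theorem tri (h : MData Q z π r) (hp : ESPair Q R z s) (hv : Eqv z s (r (e8 none))) (ha : a ∈ R)
    (haz : a * z * a⁻¹ = z * s) {y : G} (hy : y ∈ Q) (hys : s * y = y * s) :
    ∃ (x : centralizer ({z} : Set G)) (g : Co0), pr g = π x ∧ x = a * y * a⁻¹ ∧ Cg (g • e8 none) (e8 none) ∧
      ∀ i j, i ≠ j → (Cg (g • v44 i j 1 1) (v44 i j 1 1) ↔ y * r (v44 i j 1 1) = r (v44 i j 1 1) * y) := by
  have hs := hp.esR.z_comm a ha
  have hzy := h.es.z_comm y hy
  have k1 : s * (a * y * a⁻¹) = a * y * a⁻¹ * s := by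
    rw [← mul_assoc, ← mul_assoc, hs, mul_assoc a, hys, mul_assoc _ _ s, ← hp.esR.z_comm _ (inv_mem ha)]; group
  have k2 : z * (a * y * a⁻¹) = a * y * a⁻¹ * z := by
    have : z * s * (a * y * a⁻¹) = a * y * a⁻¹ * (z * s) := by
      rw [← haz]
      calc _ = a * (z * y) * a⁻¹ := by group
        _ = _ := by rw [hzy]; group
    rwa [mul_assoc, k1, ← mul_assoc, ← mul_assoc _ z, mul_left_inj] at this
  let x : centralizer ({z} : Set G) := ⟨_, mem_centralizer_singleton.2 k2⟩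
  obtain ⟨g, hg⟩ := pr_surjective (π x)
  refine ⟨x, g, hg, rfl, h.cg_of_comm hv k1 hg, fun i j hij => ?_⟩
  have hw := h.v44_mem hp hv hij (Eqv.rfl' _ _)
  have e := h.r_smul x g hg (v44 i j 1 1)
  rw [← h.eqv_iff]
  generalize r (g • v44 i j 1 1) = w', h.r_mem (v44 i j 1 1) = hq at e ⊢
  generalize r (v44 i j 1 1) = w at *
  have k3 : ∀ c, y * w * y⁻¹ = c * w → s * c = c * s → (x : G) * w * (x : G)⁻¹ = a * c * a⁻¹ * w := fun c e1 e2 => by
    obtain ⟨d, d1, d2, d3⟩ : ∃ d, a⁻¹ * w * a⁻¹⁻¹ = d * w ∧ y * d = d * y ∧ d * c = c * d := by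
      rcases hp.esR.aes.conj_eq (inv_mem ha) hw with k | k
      exacts [⟨1, by rw [k, one_mul], by simp, by simp⟩, ⟨s, k, hys.symm, e2⟩]
    calc _ = a * (y * (a⁻¹ * w * a⁻¹⁻¹) * y⁻¹) * a⁻¹ := by simp only [x]; group
      _ = a * (d * (y * w * y⁻¹)) * a⁻¹ := by rw [d1, ← mul_assoc y, d2]; group
      _ = _ := by rw [e1, ← mul_assoc d, d3, mul_assoc c, ← d1]; group
  by_cases c : y * w = w * y
  · rw [k3 1 (by rw [c]; group) (by simp), mul_one, mul_inv_cancel, one_mul] at e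
    exact iff_of_true e c
  · rw [k3 z (h.es.aes.conj_of_ne hy hq c) hp.zs_comm.symm, haz] at e
    refine iff_of_false (fun k => ?_) c
    rcases (e.symm h.zz).trans h.zz k with k | k
    · exact hp.ne (by rw [← h.es.z_inv]; exact inv_eq_of_mul_eq_one_right (mul_eq_right.1 k))
    · exact hp.esR.z_ne (mul_eq_left.1 (mul_right_cancel k))

theorem eps_lift (h : MData Q z π r) (hp : ESPair Q R z s) (hv : Eqv z s (r (e8 none))) (ha : a ∈ R)
    (haz : a * z * a⁻¹ = z * s) : ∃ x : centralizer ({z} : Set G), pr eps = π x ∧ x = a * r x0 * a⁻¹ := by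
  obtain ⟨x, g, hg, e, h1, h2⟩ := tri h hp hv ha haz (h.r_mem x0) ((E0_le_PP h (x0_mem_E0 h)).2 _ (s_mem_E0 h hv))
  simp only [h.comm_iff, ip_v44, x0, two_apply] at h2
  refine ⟨x, hg ▸ ((pr_cases h1 fun i j hij k => (h2 i j hij).2 ?_).resolve_left fun c => ?_).symm, e⟩
  · by_cases hi : i ∈ O8 <;> simp [← k, hi]
  · have := (h2 none (some 4) (by simp)).1 (by simpa using cg_smul_of_pr_eq (c.trans (map_one _).symm) _)
    simp [none_mem_O8, four_notMem_O8] at this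

theorem u_mem (h : MData Q z π r) (hp : ESPair Q R z s) (hv : Eqv z s (r (e8 none))) (ha : a ∈ R)
    (haz : a * z * a⁻¹ = z * s) : a * r x0 * a⁻¹ ∈ EE h := by
  intro y hy
  obtain ⟨x, hx, e⟩ := eps_lift h hp hv ha haz
  obtain ⟨v, hyv⟩ := h.r_surj y hy.1
  have k1 : Eqv z (x * y * (x : G)⁻¹) y := (hyv.conj (MData.z_comm_coe x)).trans h.zz
    (((h.r_smul x eps hx v).symm h.zz).trans h.zz
      ((h.eqv_iff.2 (cg_eps ((mem_PP h hyv).1 hy))).trans h.zz (hyv.symm h.zz)))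
  have haz' : a⁻¹ * z * a⁻¹⁻¹ = z * s := by
    have : a * (z * s) * a⁻¹ = z := by
      calc _ = a * z * a⁻¹ * s := by rw [mul_assoc a, mul_assoc z, hp.esR.z_comm _ (inv_mem ha)]; group
        _ = z := by rw [haz, mul_assoc, hp.esR.z_sq, mul_one]
    conv_lhs => rw [← this]
    group
  obtain ⟨x', g, hg, e', h1, h2⟩ := tri h hp hv (inv_mem ha) haz' hy.1 (hy.2 _ (s_mem_E0 h hv))
  have k2 : Eqv z (x' * r x0 * (x' : G)⁻¹) (r x0) := ((h.r_smul x' g hg x0).symm h.zz).trans h.zz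
    (h.eqv_iff.2 (cg_x0 h1 fun i hi j hj hij => (h2 i j hij).2
      (hy.2 _ ⟨_, v44_mem_LO hi hj _ _, Eqv.rfl' _ _⟩).symm))
  have k3 : y * x * y⁻¹ = a * (x' * r x0 * (x' : G)⁻¹) * a⁻¹ := by rw [e, e']; group
  rw [← e]
  refine (mul_inv_eq_iff_eq_mul.1 (k1.resolve_right fun c => ?_)).symm
  have k4 : y * x * y⁻¹ = z * x := by
    calc _ = z * (z * y) * x * y⁻¹ := by rw [h.es.z_mul_z_mul]
      _ = _ := by rw [mul_assoc z, ← c]; group
  rw [k4] at k3
  rcases k2 with k | k <;> rw [k] at k3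
  · exact h.es.z_ne (mul_eq_right.1 (k3.trans e.symm))
  · rw [show a * (z * r x0) * a⁻¹ = a * z * a⁻¹ * (a * r x0 * a⁻¹) by group, haz, ← e] at k3
    exact hp.esR.z_ne (mul_eq_left.1 (mul_right_cancel k3).symm)

theorem EE_cases (h : MData Q z π r) {x : centralizer ({z} : Set G)} (hx : pr eps = π x) (hE : (x : G) ∈ EE h) {e : G}
    (he : e ∈ EE h) : e ∈ E0 h ∨ e * (x : G)⁻¹ ∈ E0 h := by
  let y : centralizer ({z} : Set G) := ⟨e, EE_le h he⟩
  obtain ⟨g, hg⟩ := pr_surjective (π y)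
  have k : ∀ v, (∀ w ∈ LO, (16 : ℤ) ∣ ip w v) → Cg (g • v) v := fun v hv =>
    h.cg_of_comm (Eqv.rfl' _ _) (he _ ((mem_PP h (Eqv.rfl' _ _)).2 hv)) hg
  refine (pr_cases (k _ fun w hw => dvd_ip_LO hw e8_mem) fun i j _ c => k _ fun w hw => ?_).imp
    (fun c => mem_E0 h ((h.ker y).1 (hg ▸ c)) he) fun c =>
      mem_E0 h ((h.ker (y * x⁻¹)).1 (by rw [map_mul, map_inv, ← hg, c, hx, mul_inv_cancel])) (mul_mem he (inv_mem hE))
  by_cases hi : i ∈ O8
  · exact dvd_ip_LO hw (v44_mem_LO hi (c.1 hi) _ _)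
  · simp [ip_v44, hw i hi, hw j (mt c.2 hi)]

theorem exists_tenD (h : MData Q z π r) (hp : ESPair Q R z s) (hv : Eqv z s (r (e8 none))) :
    ∃ n, TenD Q (EE h) z n ∧ Nat.card (EE h) ≤ 2 ^ 10 := by
  obtain ⟨a, ha, -, haz⟩ := hp.symm.exists_q
  rw [← hp.zs_comm] at haz
  have hE := u_mem h hp hv ha haz
  obtain ⟨x, hx, e⟩ := eps_lift h hp hv ha haz
  rw [← e] at hE
  have hxz := MData.z_comm_coe x
  have hc := fun e => EE_cases h hx hE (e := e)
  have hxQ : (x : G) ∉ Q := fun c => pr_eps_ne (hx.trans ((h.ker x).2 c))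
  have hu := x0_mem_E0 h
  have hs := s_mem_E0 h hv
  have hxx : (x : G) * x = 1 := by
    rw [e, show a * r x0 * a⁻¹ * (a * r x0 * a⁻¹) = a * (r x0 * r x0) * a⁻¹ by group, E0_sq h hu]; group
  have h2 : ∀ e ∈ EE h, e * e = 1 := fun e he => (hc e he).elim (E0_sq h) fun c => by
    have k := hE _ (E0_le_PP h c)
    calc e * e = e * (x : G)⁻¹ * (e * (x : G)⁻¹ * x) * x := by rw [k]; group
      _ = _ := by rw [← mul_assoc, E0_sq h c, one_mul, hxx]
  have h0 : ∀ e ∈ EE h, e ∉ Q → e * (x : G)⁻¹ ∈ E0 h := fun e he c => (hc e he).resolve_left fun k => c (E0_le h k)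
  have aN : a ∈ normalizer (EE h : Set G) := by
    have k1 : ∀ e ∈ E0 h, e ∈ R → a * e * a⁻¹ ∈ EE h := fun e he hR => by
      rcases hp.esR.aes.conj_eq ha hR with k | k <;> rw [k]
      exacts [E0_le_EE h he, E0_le_EE h (mul_mem hs he)]
    have k2 : ∀ e ∈ E0 h, a * e * a⁻¹ ∈ EE h := fun y ⟨v, hv', k⟩ => by
      rcases LO_cases hv' with c | c
      · exact k1 y ⟨v, hv', k⟩ (mem_of_eqv' hp.z_mem k (r_mem_R h hp hv c))
      have k3 : Eqv z (y * r x0) (r (v - x0)) :=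
        (k.mul_right _).trans h.zz (((h.r_add _ _).symm h.zz).trans h.zz (h.eqv_iff.2 (Cg.sub_add _ _).symm))
      refine (mul_mem_cancel_right hE).1 ?_
      rw [e, show a * y * a⁻¹ * (a * r x0 * a⁻¹) = a * (y * r x0) * a⁻¹ by group]
      exact k1 _ (mul_mem ⟨v, hv', k⟩ hu) (mem_of_eqv' hp.z_mem k3 (r_mem_R h hp hv c))
    refine mem_normalizer_fintype fun y hy => (hc y hy).elim (k2 y) fun c => ?_
    have k3 : a * x * a⁻¹ = r x0 := by
      rw [e, show a * (a * r x0 * a⁻¹) * a⁻¹ = a * a * r x0 * (a * a)⁻¹ by group]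
      rcases hp.esR.sq a ha with k | k <;> rw [k]
      · group
      · rw [(E0_le_PP h hu).2 s hs, mul_inv_cancel_right]
    rw [show a * y * a⁻¹ = a * (y * (x : G)⁻¹) * a⁻¹ * (a * x * a⁻¹) by group, k3]
    exact mul_mem (k2 _ c) (E0_le_EE h hu)
  obtain ⟨k, k1, k2⟩ := exists_k
  have k3 : Eqv z (z * s * r x0) (r (x0 - e8 none)) :=
    Eqv.trans h.zz (Or.inr (mul_assoc _ _ _)) ((hv.mul_right _).trans h.zz (((h.r_add _ _).symm h.zz).trans h.zz
      (h.eqv_iff.2 (add_comm x0 _ ▸ (Cg.sub_add _ _).symm))))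
  obtain ⟨k4, k5⟩ := h.ne_of_eqv k3 (by rw [← k2, nm_smul, nm_e8]) (by rw [← k2, nm_smul, nm_e8]; norm_num)
  obtain ⟨y, hy, k6⟩ := h.exists_conj (s := z * s) (Eqv.trans h.zz (Or.inr rfl) hv) k3 k4 k5 (g := k) (k2 ▸ Cg.refl (k • e8 none))
  have hn : a * y * a * z * (a * y * a)⁻¹ = z * x := by
    calc _ = a * (y * (a * z * a⁻¹) * (y : G)⁻¹) * a⁻¹ := by group
      _ = a * (z * s * r x0) * a⁻¹ := by rw [haz, k6]
      _ = a * z * a⁻¹ * (a * s * a⁻¹) * x := by rw [e]; group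
      _ = _ := by rw [haz, ← hp.esR.z_comm a ha, mul_inv_cancel_right, mul_assoc z, hp.esR.z_sq, mul_one]
  have hzx : z * x ∉ Q := fun c => hxQ ((mul_mem_cancel_left h.es.z_mem).1 c)
  refine ⟨a * y * a, ⟨h.es, ⟨⟨⟨fun x y => Subtype.ext (comm_of_sq_eq_one h2 x.2 y.2)⟩⟩, fun x hx => by
    rw [pow_two, h2 x hx]⟩, Q_le_N h, E0_le_EE h (z_mem_E0 h), mul_mem (mul_mem aN (mem_N h hy k1)) aN,
    fun e he e' he' c c' => ?_, fun e he c => ?_, hn ▸ hzx, fun c => ?_, ?_⟩, ?_⟩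
  · have := mul_mem (E0_le h (h0 e he c)) (E0_le h (h0 e' he' c'))
    rwa [mul_assoc, ← mul_assoc _ e', comm_of_sq_eq_one h2 (inv_mem hE) he', mul_assoc e', ← mul_inv_rev, hxx, inv_one,
      mul_one] at this
  · obtain ⟨_, hw, c1⟩ := h0 e he c
    obtain ⟨v, rfl⟩ := exists_sub hw
    refine ⟨r v, h.r_mem v, ?_⟩
    have c2 : Eqv z (r v * (x * (r v)⁻¹ * (x : G)⁻¹)) (r (v - eps • v)) :=
      ((((h.es.aes.eqv_inv (h.r_mem v)).conj hxz).trans h.zz ((h.r_smul x eps hx v).symm h.zz)).mul_left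
        (h.es.z_comm _ (h.r_mem v))).trans h.zz (((h.r_add _ _).symm h.zz).trans h.zz
          (h.eqv_iff.2 (Cg.sub_add _ _).symm))
    have c3 := (c1.trans h.zz (c2.symm h.zz)).mul_right x
    rw [hn, ← mul_assoc, ← h.es.z_comm _ (h.r_mem v), mul_assoc z, mul_assoc z]
    refine Eqv.trans h.zz ?_ (Or.inr (h.es.z_mul_z_mul _).symm)
    convert c3 using 1 <;> group
  · by_cases c1 : (a * y * a)⁻¹ * z * (a * y * a)⁻¹⁻¹ = z
    · refine hzx (hn ▸ ?_)
      conv => enter [2, 1, 2]; rw [← c1]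
      convert h.es.z_mem using 1; group
    · exact hzx (by simpa only [inv_inv, hn] using mem_map_conj_iff.1 (h.pair (by rwa [inv_inv]) c1).z_mem)
  · rw [hn, h.es.z_mul_z_mul]
    intro c
    have := qq_zero.2 (Or.inr c)
    rw [e, qq_conj, qq_two h (Eqv.rfl' _ _) nm_x0] at this
    exact one_ne_zero this
  · let f : Bool × Bool × Fin (2 ^ 8) → G := fun p =>
      (if p.1 then z else 1) * r (comb bO 8 p.2.2) * if p.2.1 then (x : G) else 1
    have k : ∀ e ∈ E0 h, ∀ b : Bool, e * (if b then (x : G) else 1) ∈ Set.range f := fun e ⟨v, hv, c⟩ b => by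
      obtain ⟨m, hm, c'⟩ := exists_comb hv
      rcases c.trans h.zz (h.eqv_iff.2 c') with rfl | rfl
      exacts [⟨(false, b, ⟨m, hm⟩), by simp [f]⟩, ⟨(true, b, ⟨m, hm⟩), by simp [f]⟩]
    calc _ ≤ (Set.range f).ncard := by
          rw [← SetLike.coe_sort_coe, Nat.card_coe_set_eq]
          exact Set.ncard_le_ncard (fun e he => (hc e he).elim (fun c => by simpa using k e c false)
            fun c => by simpa using k _ c true) (Set.finite_range f)
      _ ≤ Nat.card (Bool × Bool × Fin (2 ^ 8)) := by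
          rw [← Set.image_univ, ← Set.ncard_univ]; exact Set.ncard_image_le Set.finite_univ
      _ ≤ _ := by simp

end Cfsg.Agent.Gr.L2
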