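import Mathlib
import Cfsg.Agent.GT.PGroupExtraspecial
import Cfsg.Agent.Spor.CZ.Om
import Cfsg.Agent.Gr.L2.TenE

/-! The normaliser `2^{10+16}.Ω⁺₁₀(2)` in a group of Monster type. -/

set_option autoImplicit false

namespace Cfsg.Agent.Gr.L2

open Subgroup Cfsg.Agent.Spor Cfsg.Agent.Spor.MT Cfsg.Agent.Spor.Leech

variable {G : Type*} [Group G] [Finite G] {Q : Subgroup G} {z n : G}
  {π : centralizer ({z} : Set G) →* Cfsg.Spor.Co1} {r : Λ → G}

theorem not_refl (h : MData Q z π r) (hw : ∃ g : G, g * z * g⁻¹ ∈ Q ∧ g * z * g⁻¹ ≠ z) {g : G}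
    (h1 : ∀ y ∈ EE h, qq z (y * r (v44 none (some 0) 1 (-1))) = qq z y + 1 → g * y * g⁻¹ = y)
    (h2 : ∀ y ∈ EE h, qq z (y * r (v44 none (some 0) 1 (-1))) = qq z y →
      g * y * g⁻¹ = y * r (v44 none (some 0) 1 (-1))) : False := by
  have k0 : ∀ v ∈ LO, r v ∈ EE h := fun v hv => E0_le_EE h ⟨v, hv, Eqv.rfl' _ _⟩
  have k1 : ∀ v w, Eqv z (r v * r w) (r (v - w)) := fun v w =>
    ((h.r_add _ _).symm h.zz).trans h.zz (h.eqv_iff.2 (Cg.sub_add _ _).symm)
  have k4 : ∀ {e v}, Eqv z e (r v) → nm v = 64 → qq z e = 0 := fun he hv =>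
    qq_zero.2 (Or.inr (h.isConj_of_type_four hw he hv))
  let x : centralizer ({z} : Set G) := ⟨g, mem_centralizer_singleton.2 (mul_inv_eq_iff_eq_mul.1
    (h1 z (E0_le_EE h (z_mem_E0 h)) (by rw [qq_self, qq_two h (Or.inr rfl) (nm_v44 none_ne_zero _ _), zero_add]))).symm⟩
  obtain ⟨k, hk⟩ := pr_surjective (π x)
  have k2 : ∀ v ∈ LO, qq z (r v * r (v44 none (some 0) 1 (-1))) = qq z (r v) + 1 → Cg (k • v) v := fun v hv e =>
    h.cg_of_comm (Eqv.rfl' _ _) (mul_inv_eq_iff_eq_mul.1 (h1 _ (k0 v hv) e)).symm hk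
  refine no_refl (k2 _ e8_mem ?_) (fun i hi j hj hij => ?_) ?_
  · rw [k4 (Eqv.rfl' _ _) (nm_e8 _), qq_two h (k1 _ _), zero_add]
    rw [← v44_add_v44 none (some 0), add_sub_cancel_right, nm_v44 none_ne_zero]
  · simp only [Finset.mem_sdiff, Finset.mem_insert, Finset.mem_singleton, not_or] at hi hj
    refine k2 _ (v44_mem_LO hi.1 hj.1 _ _) ?_
    rw [qq_two h (Eqv.rfl' _ _) (nm_v44 hij _ _), k4 (k1 _ _)]
    · rfl
    rw [nm_sub, nm_v44 hij, nm_v44 none_ne_zero, ip_comm, ip_v44_v44_of_ne hi.2.1 hi.2.2 hj.2.1 hj.2.2]; rfl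
  · have e : v44 none (some 1) 1 1 - v44 none (some 0) 1 (-1) = v44 (some 0) (some 1) 1 1 := by
      ext i; simp only [AddSubgroup.coe_sub, Pi.sub_apply, v44_apply]; split_ifs <;> rfl
    have e1 := e ▸ k1 (v44 none (some 1) 1 1) (v44 none (some 0) 1 (-1))
    refine h.eqv_iff.1 ((h.r_smul x k hk _).trans h.zz ?_)
    rwa [show (x : G) = g from rfl, h2 _ (k0 _ (v44_mem_LO none_mem_O8 (by decide +kernel) _ _)) (by
      rw [qq_two h e1 (nm_v44 (by decide) _ _), qq_two h (Eqv.rfl' _ _) (nm_v44 (by simp) _ _)])]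

theorem card_PP (h : MData Q z π r) (hD : TenD Q (EE h) z n) (hc : Nat.card (EE h) = 2 ^ 10) :
    Nat.card (E0 h) = 2 ^ 9 ∧ Nat.card (PP h) = 2 ^ 17 := by
  have h1 : Q.relIndex (EE h) = 2 := relIndex_eq_two_iff_exists_notMem_and.2 ⟨_, hD.tE, hD.tQ, fun b hb =>
    (em (b ∈ Q)).symm.imp_left (hD.two b hb _ hD.tE · hD.tQ)⟩
  have h2 := GT.card_inf_mul_relIndex Q (EE h)
  rw [show Q ⊓ EE h = E0 h from le_antisymm (fun y hy => mem_E0 h hy.1 hy.2) (le_inf (E0_le h) (E0_le_EE h)), h1,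
    hc] at h2
  have h3 := h.es.card_mul_card_centralizer (E0_le h) (z_mem_E0 h)
  have h4 : Nat.card (E0 h) = 2 ^ 9 := by omega
  rw [h4, h.card] at h3
  exact ⟨h4, by unfold PP; omega⟩

theorem cent_struct (h : MData Q z π r) (hD : TenD Q (EE h) z n) (hc : Nat.card (EE h) = 2 ^ 10) :
    Nat.card (centralizer (EE h : Set G)) = 2 ^ 26 ∧ (∀ x ∈ centralizer (EE h : Set G), x * x ∈ EE h) ∧
      z ∈ ⁅centralizer (EE h : Set G), centralizer (EE h : Set G)⁆ := by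
  obtain ⟨c1, c2⟩ := card_PP h hD hc
  have hP : PP h ≤ centralizer (EE h : Set G) := le_centralizer_iff.1 le_rfl
  have hz : centralizer (EE h : Set G) ≤ centralizer {z} := fun x hx => mem_centralizer_singleton.2 (hx z hD.zE)
  have h0 : centralizer (EE h : Set G) ≤ centralizer (E0 h : Set G) := centralizer_le (E0_le_EE h)
  have k1 : ∀ x ∈ centralizer (EE h : Set G), ∀ y ∈ PP h, x * y * x⁻¹ ∈ PP h := fun x hx y hy =>
    mem_inf.2 ⟨h.lg.norm x (hx z hD.zE) y hy.1, mul_mem (mul_mem (h0 hx) hy.2) (inv_mem (h0 hx))⟩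
  let T := (PP h).map (MulAut.conj n).toMonoidHom
  have hT : T ≤ centralizer (EE h : Set G) := by
    rintro _ ⟨y, hy, rfl⟩
    exact ESPair.conj_mem_C hD.nN (hP hy)
  have k2 : ∀ x ∈ centralizer (EE h : Set G), ∀ y ∈ T, x * y * x⁻¹ ∈ T := fun x hx y hy => mem_map_conj_iff.2 (by
    convert k1 _ (ESPair.conj_mem_C (inv_mem hD.nN) hx) _ (mem_map_conj_iff.1 hy) using 1; group)
  have k3 : z ∉ T := fun c => hD.zQ (mem_map_conj_iff.1 c).1
  have k4 : T ⊓ PP h ≤ E0 h := fun x hx => mem_E0 h hx.2.1 fun y hy => by_contra fun c => k3 (by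
    have := k2 y (hP hy) x hx.1
    rw [h.es.aes.conj_of_ne hy.1 hx.2.1 c] at this
    exact (T.mul_mem_cancel_right hx.1).1 this)
  have k5 : T ≤ normalizer (PP h : Set G) := fun x hx => mem_normalizer_fintype (k1 x (hT hx))
  have c3 := GT.card_sup_mul_card_inf_of_le_normalizer k5
  have c4 := two_mul_card_le k4 (z_mem_E0 h) fun c => k3 c.1
  rw [card_map_of_injective (MulAut.conj n).injective, c2] at c3
  have c5 : 2 ^ 26 ≤ Nat.card ↥(T ⊔ PP h) := by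
    refine Nat.le_of_mul_le_mul_right (c := 2 ^ 8) ?_ (by norm_num)
    calc _ = _ := c3.symm
      _ ≤ _ := Nat.mul_le_mul_left _ (by omega)
  let ι := π.comp (inclusion hz)
  have c6 := card_mul_index ι.ker
  have c7 : Nat.card ι.range ≤ 2 ^ 9 := card_le_fix (by
    rintro _ ⟨x, rfl⟩
    obtain ⟨g, hg⟩ := pr_surjective (ι x)
    exact ⟨g, hg, fun v hv => h.cg_of_comm (Eqv.rfl' _ _) (h0 x.2 _ ⟨v, hv, Eqv.rfl' _ _⟩) hg⟩)
  rw [index_ker, show ι.ker = (PP h).subgroupOf _ from Subgroup.ext fun x =>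
    (h.ker _).trans ⟨fun k => ⟨k, h0 x.2⟩, fun k => k.1⟩, Nat.card_congr (subgroupOfEquivOfLe hP).toEquiv, c2] at c6
  have c8 := card_le_of_le (sup_le hT hP)
  have e := eq_of_le_of_card_ge (sup_le hT hP) (by omega)
  refine ⟨by omega, fun x hx => ?_, ?_⟩
  · obtain ⟨a, ha, b, hb, rfl⟩ := (GT.PG.mem_sup_of_le_normalizer' k5).1 (e.ge hx)
    rw [show a * b * (a * b) = a * a * (a⁻¹ * (b * a * b⁻¹)) * (b * b) by group]
    refine mul_mem (mul_mem ?_ (E0_le_EE h (k4 (mem_inf.2 ⟨mul_mem (inv_mem ha) (k2 b (hP hb) a ha), ?_⟩)))) ?_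
    · rw [show a * a = n * (n⁻¹ * a * n * (n⁻¹ * a * n)) * n⁻¹ by group]
      rcases h.es.sq _ (mem_map_conj_iff.1 ha).1 with k | k <;> rw [k]
      exacts [TenD.cj hD.nN (one_mem _), hD.tE]
    · convert mul_mem (k1 _ (inv_mem (hT ha)) b hb) (inv_mem hb) using 1; group
    · rcases h.es.sq b hb.1 with k | k <;> rw [k]
      exacts [one_mem _, hD.zE]
  · by_contra c
    have : PP h ≤ EE h := fun x hx y hy => by_contra fun d => c (by
      have := commutator_mem_commutator (hP hy) (hP hx)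
      rwa [commutatorElement_def, h.es.aes.conj_of_ne hy.1 hx.1 d, mul_inv_cancel_right] at this)
    have := card_le_of_le this
    omega

theorem ten (h : MData Q z π r) {a : G} (h1 : a * z * a⁻¹ ∈ Q) (h2 : a * z * a⁻¹ ≠ z) :
    ∃ (E N : Subgroup G) (O : Subgroup N), IsElementaryAbelian 2 E ∧ Nat.card E = 2 ^ 10 ∧
      N = normalizer (E : Set G) ∧ O = pCore 2 N ∧ IsSpecial 2 O ∧ Nat.card O = 2 ^ 26 ∧
      (center O).map O.subtype = E.subgroupOf N ∧ O = centralizer (E.subgroupOf N : Set N) ∧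
      ∃ _ : O.Normal, Nonempty (N ⧸ O ≃* Omega (ZMod 2) (quadFormPlus 5 (ZMod 2))) := by
  have : Fact (Nat.Prime 2) := ⟨Nat.prime_two⟩
  have hw : ∃ g : G, g * z * g⁻¹ ∈ Q ∧ g * z * g⁻¹ ≠ z := ⟨a, h1, h2⟩
  have hp := h.pair h1 h2
  generalize a * z * a⁻¹ = s, Q.map (MulAut.conj a).toMonoidHom = R at hp
  obtain ⟨k, hv⟩ := h.exists_e8 hp none
  replace h := h.remark k
  change Eqv z s ((fun v => r (k • v)) (e8 none)) at hv
  generalize (MulAut.conj (pr k)⁻¹).toMonoidHom.comp π = π, (fun v => r (k • v)) = r at h hv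
  obtain ⟨n, hD, hc⟩ := exists_tenD h hp hv
  obtain ⟨c1, Φ, b1, b2⟩ := hD.omega hc (U := E5 h) (fun _ ⟨n, hn, e⟩ => E0_le_EE h ⟨_, uv_mem hn, e⟩) (card_E5 h)
    (fun _ => isConj_E5 h hw) (E0_le_EE h ⟨_, v44_mem_LO none_mem_O8 (by decide +kernel) _ _, Eqv.rfl' _ _⟩)
    (qq_two h (Eqv.rfl' _ _) (nm_v44 none_ne_zero 1 (-1))) fun _ _ => not_refl h hw
  obtain ⟨c2, c3, c4⟩ := cent_struct h hD c1
  have hE : EE h ≤ centralizer (EE h : Set G) := fun x hx y hy => hD.ea.comm hy hx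
  have hN := centralizer_le_normalizer (EE h : Set G)
  have hZ := CZ.center_omega_two (Cl.quad_plus_nondeg (m := 5) (F := ZMod 2)) (by simp)
  have := Cl.isSimpleGroup_pomega (Cl.quad_plus_nondeg (m := 5) (F := ZMod 2)) (by simp)
  have := (Cl.centerQuotEquivOfEqBot hZ).symm.isSimpleGroup
  obtain ⟨O, o1, o2, o3, o4⟩ := shape (E := EE h) hN c2 (le_antisymm (by
      rintro _ ⟨x, hx, rfl⟩ y hy
      exact congrArg Subtype.val (mem_center_iff.1 hx ⟨y, le_centralizer_iff.1 le_rfl hy⟩))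
    fun x hx => ⟨⟨x, hE hx⟩, mem_center_iff.2 fun y => Subtype.ext (y.2 x hx).symm, rfl⟩) (pCore_of_center hZ) Φ b1 b2
  have o5 : ∀ x, x ∈ O ↔ (x : G) ∈ centralizer (EE h : Set G) := fun x => by
    have k : Nat.card Φ.ker = 2 ^ 26 := by
      rw [show Φ.ker = (centralizer _).subgroupOf _ from Subgroup.ext b2,
        Nat.card_congr (subgroupOfEquivOfLe hN).toEquiv, c2]
    rw [← eq_of_le_of_card_ge (o1 ▸ GT.le_pCore (IsPGroup.of_card k) : Φ.ker ≤ O) (by omega)]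
    exact b2 x
  have o6 : ∀ x : O, x ∈ center O ↔ ((x : normalizer (EE h : Set G)) : G) ∈ EE h := fun x => by
    rw [← mem_subgroupOf, ← o3]
    exact (mem_map_iff_mem O.subtype_injective).symm
  refine ⟨_, _, O, hD.ea, c1, rfl, o1, (GT.PG.isSpecial_iff (IsPGroup.of_card o2)).2 ⟨le_antisymm
    (commutator_le.2 fun x _ y _ => (o6 _).2 (comm_mem_of_sq_mem (fun x hx e he => TenD.cj (hN hx) he) c3
      ((o5 _).1 x.2) ((o5 _).1 y.2))) fun x hx => ?_,
    fun x => (o6 _).2 (by rw [pow_two]; exact c3 _ ((o5 _).1 x.2))⟩, o2, o3, Subgroup.ext fun x => (o5 x).trans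
      ⟨fun k y hy => Subtype.ext (k y hy), fun k y hy => congrArg Subtype.val (k ⟨y, hN (hE hy)⟩ hy)⟩, o4⟩
  obtain ⟨_, -⟩ := o4
  have k : O.map (normalizer (EE h : Set G)).subtype = centralizer (EE h : Set G) := by
    rw [show O = (centralizer _).subgroupOf _ from Subgroup.ext o5, map_subgroupOf_eq_of_le hN]
  have := hD.gen (H := ⁅O, O⁆.map (normalizer (EE h : Set G)).subtype) (by rwa [map_commutator, k]) (by
    rintro g hg _ ⟨y, hy, rfl⟩
    exact ⟨_, (inferInstance : ⁅O, O⁆.Normal).conj_mem y hy ⟨g, hg⟩, rfl⟩) ((o6 x).1 hx)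
  rw [← map_subtype_commutator] at this
  exact (mem_map_iff_mem O.subtype_injective).1 ((mem_map_iff_mem (subtype_injective _)).1 this)

end Cfsg.Agent.Gr.L2
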